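import Groth.Agent.SGA3x.K8.TrivLocus
import Mathlib.RingTheory.Filtration

/-!
# The locus where a homomorphism from a group of multiplicative type is trivial is open and closed: main theorems
-/

set_option autoImplicit false
universe u
open CategoryTheory MonoidalCategory CartesianMonoidalCategory MonObj GrpObj AlgebraicGeometry Limits

namespace K8.TrivClopen

open Groth.Agent Groth.Agent.Sga3B Groth.Agent.Sga3.H800.LocRig K21.MultLoc TrivLocus

variable {S S' S'' : Scheme.{u}} {H G : Over S} [GrpObj G] [GrpObj H]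

lemma mem_range_of_fromSpecResidueField {Z : Scheme.{u}} (t : Z ⟶ S) (s : S)
    (h : ∃ w : Spec (S.residueField s) ⟶ Z, w ≫ t = S.fromSpecResidueField s) : s ∈ Set.range t := by
  obtain ⟨w, hw⟩ := h
  obtain ⟨x, hx⟩ : ∃ x : Spec (S.residueField s), S.fromSpecResidueField s x = s :=
    ⟨_, Scheme.fromSpecResidueField_apply s (IsLocalRing.closedPoint (S.residueField s))⟩
  refine ⟨w x, ?_⟩
  rw [← Scheme.Hom.comp_apply, hw, hx]

omit [GrpObj H] in
/-- The image of a flat morphism locally of finite presentation -/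
lemma exists_opens_of_flat {W : Scheme.{u}} (w : W ⟶ S) [Flat w] [LocallyOfFinitePresentation w] (u : H ⟶ G)
    (h : TrivOver w u) : ∃ V : S.Opens, Set.range w = V ∧ TrivOver V.ι u := by
  let V : S.Opens := ⟨Set.range w, w.isOpenMap.isOpen_range⟩
  let w' : W ⟶ V := IsOpenImmersion.lift V.ι w (by rw [Scheme.Opens.range_ι]; exact subset_rfl)
  have hw' : w' ≫ V.ι = w := IsOpenImmersion.lift_fac _ _ _
  have h4 : Flat w' := by
    have : Flat (w' ≫ V.ι) := by rw [hw']; infer_instance
    exact MorphismProperty.of_postcomp (W := @Flat) (W' := @IsOpenImmersion) w' V.ι inferInstance this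
  refine ⟨V, rfl, trivOver_of_cover V.ι u ?_⟩
  rintro ⟨x, y, hy⟩
  refine ⟨W, w', h4, ⟨y, V.ι.injective ?_⟩, by rwa [hw']⟩
  rw [← Scheme.Hom.comp_apply, hw']
  exact hy

/-- **Triviality of a homomorphism from a group of multiplicative type spreads out.** -/
theorem exists_nhd (hH : SGA3x.IsMultTypeFT H) [IsSeparated G.hom]
    (hG : IsLocallyNoetherian S ∨ LocallyOfFiniteType G.hom) (u : H ⟶ G) [IsMonHom u]
    (s : S) (hs : TrivOver (S.fromSpecResidueField s) u) :
    ∃ V : S.Opens, s ∈ V ∧ TrivOver V.ι u := by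
  obtain ⟨Z, t, ht, hfp, huniv⟩ := exists_triv (isMult_of_isMultTypeFT hH) u
  obtain ⟨z, hz⟩ := mem_range_of_fromSpecResidueField t s ((huniv _).2 hs)
  obtain ⟨B, _, v, M, _, hv, ⟨y, hy⟩, hM, ⟨e⟩⟩ := K10.MTLoc.exists_etale_split hH s
  let f : pullback t v ⟶ Spec (CommRingCat.of B) := pullback.snd t v
  obtain ⟨K, hK, hKfp, hKx⟩ := exists_ideal f
  -- the ideal is finitely generated
  have hKfg : K.FG := by
    rcases hG with hG | hG
    · have h1 : IsLocallyNoetherian (Spec (CommRingCat.of B)) := LocallyOfFiniteType.isLocallyNoetherian v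
      have h2 : IsNoetherianRing B := isLocallyNoetherian_Spec.1 h1
      exact (isNoetherianRing_iff_ideal_fg B).1 h2 K
    · have h1 := hfp hG
      exact hKfp inferInstance
  have hfac : ∀ (D : Type u) [CommRing D] (ψ : B →+* D), TrivOver (Spec.map (CommRingCat.ofHom ψ) ≫ v) u ↔
      ∀ b ∈ K, ψ b = 0 := by
    intro D _ ψ
    rw [← hK D ψ, ← huniv]
    constructor
    · rintro ⟨z', hz'⟩
      exact ⟨pullback.lift z' (Spec.map (CommRingCat.ofHom ψ)) hz', pullback.lift_snd _ _ _⟩
    · rintro ⟨z', hz'⟩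
      exact ⟨z' ≫ pullback.fst t v, by rw [Category.assoc, pullback.condition, ← Category.assoc, hz']⟩
  have hKp : K ≤ y.asIdeal := by
    apply hKx
    obtain ⟨w, -, hw⟩ := Scheme.Pullback.exists_preimage_pullback (f := t) (g := v) z y (by rw [hz, hy])
    exact ⟨w, hw⟩
  -- the local ring
  have hprime : y.asIdeal.IsPrime := y.2
  let A₀ : Type u := Localization.AtPrime y.asIdeal
  let g₀ : Spec (CommRingCat.of A₀) ⟶ S := Spec.map (CommRingCat.ofHom (algebraMap B A₀)) ≫ v
  obtain ⟨e'⟩ := TorusAlgClosed.isSplitTorusWith_bc (Spec.map (CommRingCat.ofHom (algebraMap B A₀)))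
    (M := M) (T := Red.bc v H) ⟨e⟩
  let e₀ : Grp.mk (Red.bc g₀ H) ≅ Grp.mk (Red.DS (Spec (CommRingCat.of A₀)) M) := BcIso.bcCompIso _ _ _ ≪≫ e'
  let e₂ : Red.DS (Spec (CommRingCat.of A₀)) M ≅ Red.bc g₀ H := (Grp.forget _).mapIso e₀.symm
  have : IsMonHom e₂.hom := e₀.symm.hom.hom.isMonHom_hom
  let d : Red.DS (Spec (CommRingCat.of A₀)) M ⟶ Red.bc g₀ G := e₂.hom ≫ (Over.pullback g₀).map u
  have hd : IsMonHom d := inferInstance
  have key : ∀ (D : Type u) [CommRing D] (ψ : A₀ →+* D), TrivOver (Spec.map (CommRingCat.ofHom ψ)) d ↔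
      ∀ b ∈ K, ψ (algebraMap B A₀ b) = 0 := by
    intro D _ ψ
    rw [trivOver_iso, trivOver_bc]
    have h1 : Spec.map (CommRingCat.ofHom ψ) ≫ g₀ =
        Spec.map (CommRingCat.ofHom (ψ.comp (algebraMap B A₀))) ≫ v := by
      simp only [g₀]
      rw [← Category.assoc, ← Spec.map_comp]
      rfl
    rw [h1, hfac]
    rfl
  have h0 : TrivOver (qMap (IsLocalRing.maximalIdeal A₀)) d := by
    rw [key]
    intro b hb
    rw [Ideal.Quotient.eq_zero_iff_mem]
    exact (IsLocalization.AtPrime.to_map_mem_maximal_iff A₀ y.asIdeal b).2 (hKp hb)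
  have hzero : ∀ b ∈ K, algebraMap B A₀ b = 0 := by
    rcases hG with hG | hG
    · have h1 : IsLocallyNoetherian (Spec (CommRingCat.of B)) := LocallyOfFiniteType.isLocallyNoetherian v
      have h2 : IsNoetherianRing B := isLocallyNoetherian_Spec.1 h1
      have h3 : IsNoetherianRing A₀ := IsLocalization.isNoetherianRing y.asIdeal.primeCompl A₀ h2
      have h4 : ∀ n : ℕ, TrivOver (qMap (IsLocalRing.maximalIdeal A₀ ^ (2 ^ n))) d := by
        intro n
        induction n with
        | zero => rw [pow_zero, pow_one]; exact h0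
        | succ n ih =>
          have h5 := trivOver_sq (IsLocalRing.maximalIdeal A₀ ^ (2 ^ n)) (Ideal.pow_le_self (by positivity))
            _ d ih
          have h6 : IsLocalRing.maximalIdeal A₀ ^ (2 ^ (n + 1)) =
              IsLocalRing.maximalIdeal A₀ ^ (2 ^ n) * IsLocalRing.maximalIdeal A₀ ^ (2 ^ n) := by
            rw [← pow_add, pow_succ, mul_two]
          rw [h6]
          exact h5
      intro b hb
      have h5 : algebraMap B A₀ b ∈ (⨅ n : ℕ, IsLocalRing.maximalIdeal A₀ ^ n : Ideal A₀) := by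
        rw [Ideal.mem_iInf]
        intro n
        have h6 := (key _ _).1 (h4 n) b hb
        rw [Ideal.Quotient.eq_zero_iff_mem] at h6
        exact Ideal.pow_le_pow_right Nat.lt_two_pow_self.le h6
      rw [Ideal.iInf_pow_eq_bot_of_isLocalRing _ (IsLocalRing.maximalIdeal.isMaximal A₀).ne_top] at h5
      exact h5
    · have : AddGroup.FG M := hM
      have hlft : LocallyOfFiniteType (Red.bc g₀ G).hom :=
        inferInstanceAs (LocallyOfFiniteType (pullback.snd G.hom g₀))
      have h1 : d = 1 := Sga3.H800.LocRigid.eq_one d h0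
      have h2 := (trivOver_id d).2 h1
      have h3 : TrivOver (Spec.map (CommRingCat.ofHom (RingHom.id A₀))) d := by
        have : Spec.map (CommRingCat.ofHom (RingHom.id A₀)) = 𝟙 _ := Spec.map_id _
        rw [this]
        exact h2
      exact (key _ _).1 h3
  obtain ⟨a, ha, haK⟩ := exists_away K y.asIdeal hKfg hzero
  let w : Spec (CommRingCat.of (Localization.Away a)) ⟶ S :=
    Spec.map (CommRingCat.ofHom (algebraMap B (Localization.Away a))) ≫ v
  have hw : TrivOver w u := (hfac _ _).2 haK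
  have hw1 : Flat w := inferInstance
  have hw2 : LocallyOfFinitePresentation w := inferInstance
  obtain ⟨V, hV, hVt⟩ := exists_opens_of_flat w u hw
  refine ⟨V, ?_, hVt⟩
  rw [← SetLike.mem_coe, ← hV]
  obtain ⟨y', hy'⟩ : y ∈ Set.range (Spec.map (CommRingCat.ofHom (algebraMap B (Localization.Away a)))) := by
    change y ∈ Set.range (PrimeSpectrum.comap (algebraMap B (Localization.Away a)))
    rw [PrimeSpectrum.localization_away_comap_range (Localization.Away a) a]
    exact ha
  exact ⟨y', by rw [Scheme.Hom.comp_apply, hy', hy]⟩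

/-- **The trivial locus is open and closed.** -/
theorem exists_clopen (hH : SGA3x.IsMultTypeFT H) [IsSeparated G.hom]
    (hG : IsLocallyNoetherian S ∨ LocallyOfFiniteType G.hom) (u : H ⟶ G) [IsMonHom u] :
    ∃ U : S.Opens, IsClosed (U : Set S) ∧ (∀ s : S, s ∈ U ↔ TrivOver (S.fromSpecResidueField s) u) ∧
      TrivOver U.ι u := by
  obtain ⟨Z, t, ht, -, huniv⟩ := exists_triv (isMult_of_isMultTypeFT hH) u
  have h1 : ∀ s : S, s ∈ Set.range t ↔ TrivOver (S.fromSpecResidueField s) u := by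
    intro s
    constructor
    · rintro ⟨z, rfl⟩
      exact (huniv _).1 (exists_factor_residue t z)
    · intro h
      exact mem_range_of_fromSpecResidueField t s ((huniv _).2 h)
  have h2 : ∀ s ∈ Set.range t, ∃ V : S.Opens, s ∈ V ∧ TrivOver V.ι u := fun s hs =>
    exists_nhd hH hG u s ((h1 s).1 hs)
  have h3 : ∀ (V : S.Opens), TrivOver V.ι u → (V : Set S) ⊆ Set.range t := by
    intro V hV x hx
    obtain ⟨g', hg'⟩ := (huniv _).2 hV
    obtain ⟨x', rfl⟩ : ∃ x' : (V : Scheme.{u}), V.ι x' = x := ⟨⟨x, hx⟩, rfl⟩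
    refine ⟨g' x', ?_⟩
    rw [← Scheme.Hom.comp_apply, hg']
  have hopen : IsOpen (Set.range t) := by
    rw [isOpen_iff_forall_mem_open]
    intro s hs
    obtain ⟨V, hsV, hV⟩ := h2 s hs
    exact ⟨V, h3 V hV, V.isOpen, hsV⟩
  refine ⟨⟨Set.range t, hopen⟩, ?_, h1, ?_⟩
  · exact t.isClosedEmbedding.isClosed_range
  · apply trivOver_of_cover
    rintro ⟨x, hx⟩
    obtain ⟨V, hsV, hV⟩ := h2 x hx
    have hle : V ≤ ⟨Set.range t, hopen⟩ := h3 V hV
    refine ⟨V, S.homOfLE hle, inferInstance, ⟨⟨x, hsV⟩, ?_⟩, ?_⟩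
    · apply Subtype.ext
      exact Scheme.homOfLE_apply hle _
    · rw [Scheme.homOfLE_ι]
      exact hV

end K8.TrivClopen
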