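import Groth.Agent.Sga3B.AdGrad
import Mathlib.Order.Zorn

/-!
# A free action of a diagonalisable group on an affine scheme: `A_{-n} A_n ∋ 1`

`C : Coact R A N` a grading of `A` by `N`.  If no point of `Spec A` with values in a ring `B` is fixed by a non
trivial character `N → Bˣ`, then `1 ∈ A_{-n} A_n` for all `n` (`free_of_points`).
-/

set_option autoImplicit false
universe u

open MonoidAlgebra
open Groth.Agent.Sga3B.AdGrad

namespace K8.FreeAlg

variable {R A : Type u} [CommRing R] [CommRing A] [Algebra R A] {N : Type} [AddCommGroup N]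
variable (C : Coact R A N)

/-- homogeneous ideals -/
def IsHomIdeal (I : Ideal A) : Prop := ∀ a ∈ I, ∀ n, C.comp n a ∈ I

/-- ideals generated by homogeneous elements are homogeneous -/
lemma isHomIdeal_span (s : Set A) (hs : ∀ a ∈ s, ∃ n, C.IsHom n a) : IsHomIdeal C (Ideal.span s) := by
  intro a ha m
  induction ha using Submodule.span_induction generalizing m with
  | mem a ha =>
    obtain ⟨n, hn⟩ := hs a ha
    by_cases h : n = m
    · subst h
      rw [C.comp_of_isHom hn]
      exact Ideal.subset_span ha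
    · rw [C.comp_of_isHom_of_ne hn h]
      exact zero_mem _
  | zero => rw [show C.comp m 0 = 0 from map_zero (C.compL m)]; exact zero_mem _
  | add x y _ _ hx hy =>
    rw [show C.comp m (x + y) = C.comp m x + C.comp m y from map_add (C.compL m) x y]
    exact add_mem (hx m) (hy m)
  | smul c x _ hx =>
    -- decompose `x` into homogeneous pieces
    have h1 : c • x = ∑ n ∈ C.degs x, c * C.comp n x := by
      rw [← Finset.mul_sum, C.sum_comp x _ subset_rfl, smul_eq_mul]
    rw [h1, show C.comp m (∑ n ∈ C.degs x, c * C.comp n x) = ∑ n ∈ C.degs x, C.comp m (c * C.comp n x)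
      from map_sum (C.compL m) _ _]
    refine sum_mem fun n _ => ?_
    rw [C.comp_mul_of_isHom m c (C.isHom_comp n x)]
    exact Ideal.mul_mem_left _ _ (hx n)

/-- Zorn -/
lemma exists_maximal (J : Ideal A) (hJ : IsHomIdeal C J) (h1 : (1 : A) ∉ J) :
    ∃ Q : Ideal A, J ≤ Q ∧ IsHomIdeal C Q ∧ (1 : A) ∉ Q ∧
      ∀ Q' : Ideal A, Q ≤ Q' → IsHomIdeal C Q' → (1 : A) ∉ Q' → Q' = Q := by
  obtain ⟨Q, hJQ, hQ⟩ := zorn_le_nonempty₀ {Q : Ideal A | IsHomIdeal C Q ∧ (1 : A) ∉ Q} (by
    intro c hc hchain y hy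
    refine ⟨sSup c, ⟨?_, ?_⟩, fun z hz => le_sSup hz⟩
    · intro a ha n
      rw [Submodule.mem_sSup_of_directed ⟨y, hy⟩ hchain.directedOn] at ha ⊢
      obtain ⟨z, hz, haz⟩ := ha
      exact ⟨z, hz, (hc hz).1 a haz n⟩
    · rw [Submodule.mem_sSup_of_directed ⟨y, hy⟩ hchain.directedOn]
      rintro ⟨z, hz, haz⟩
      exact (hc hz).2 haz) J ⟨hJ, h1⟩
  refine ⟨Q, hJQ, hQ.prop.1, hQ.prop.2, fun Q' h2 h3 h4 => le_antisymm (hQ.le_of_ge ⟨h3, h4⟩ h2) h2⟩

variable {C}

/-- **The grading attached to a free action is strong.** -/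
theorem free_of_points
    (h : ∀ (B : Type u) [CommRing B] (x : A →+* B) (χ : Multiplicative N →* B),
      (∀ (n : N) (a : A), C.IsHom n a → x a * χ (Multiplicative.ofAdd n) = x a) → χ = 1) : C.Free := by
  classical
  -- it suffices that `A_n A = A`
  have key : ∀ m : N, (1 : A) ∈ Ideal.span {a : A | C.IsHom m a} := by
    intro m
    by_contra hm
    obtain ⟨Q, hJQ, hQ1, hQ2, hQ3⟩ := exists_maximal C _ (isHomIdeal_span C {a | C.IsHom m a}
      fun a ha => ⟨m, ha⟩) hm
    -- homogeneous elements outside `Q` are units modulo `Q`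
    have hunit : ∀ (n : N) (a : A), C.IsHom n a → a ∉ Q → ∃ b, C.IsHom (-n) b ∧ 1 - b * a ∈ Q := by
      intro n a ha haQ
      have h1 : (1 : A) ∈ Q ⊔ Ideal.span {a} := by
        by_contra h1
        have h2 : IsHomIdeal C (Q ⊔ Ideal.span {a}) := by
          intro z hz k
          obtain ⟨y, hy, w, hw, rfl⟩ := Submodule.mem_sup.1 hz
          rw [show C.comp k (y + w) = C.comp k y + C.comp k w from map_add (C.compL k) _ _]
          exact add_mem (Ideal.mem_sup_left (hQ1 y hy k)) (Ideal.mem_sup_right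
            (isHomIdeal_span C {a} (by rintro _ rfl; exact ⟨n, ha⟩) w hw k))
        have h3 := hQ3 _ le_sup_left h2 h1
        exact haQ (h3 ▸ Ideal.mem_sup_right (Ideal.mem_span_singleton_self a))
      obtain ⟨q, hq, w, hw, hqw⟩ := Submodule.mem_sup.1 h1
      obtain ⟨c, rfl⟩ := Ideal.mem_span_singleton'.1 hw
      have h2 := congrArg (C.comp 0) hqw
      have h3 : C.comp 0 (1 : A) = 1 := by
        have := C.isHom_algebraMap 1
        rw [map_one] at this
        exact C.comp_of_isHom this
      rw [h3, show C.comp 0 (q + c * a) = C.comp 0 q + C.comp 0 (c * a) from map_add (C.compL 0) _ _,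
        C.comp_mul_of_isHom 0 c ha, zero_sub] at h2
      refine ⟨C.comp (-n) c, C.isHom_comp _ _, ?_⟩
      rw [← h2, add_sub_cancel_right]
      exact hQ1 q hq 0
    -- the subgroup of degrees
    let N' : AddSubgroup N :=
      { carrier := {n | ∃ a, C.IsHom n a ∧ a ∉ Q}
        zero_mem' := ⟨1, by simpa using C.isHom_algebraMap 1, hQ2⟩
        add_mem' := by
          rintro n n' ⟨a, ha, haQ⟩ ⟨a', ha', haQ'⟩
          refine ⟨a * a', ha.mul ha', fun h1 => haQ' ?_⟩
          obtain ⟨b, -, hb2⟩ := hunit n a ha haQ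
          have : a' = (1 - b * a) * a' + b * (a * a') := by ring
          rw [this]
          exact add_mem (Ideal.mul_mem_right _ _ hb2) (Ideal.mul_mem_left _ _ h1)
        neg_mem' := by
          rintro n ⟨a, ha, haQ⟩
          obtain ⟨b, hb1, hb2⟩ := hunit n a ha haQ
          refine ⟨b, hb1, fun h1 => hQ2 ?_⟩
          have : (1 : A) = (1 - b * a) + a * b := by ring
          rw [this]
          exact add_mem hb2 (Ideal.mul_mem_left _ _ h1) }
    have hmN : m ∉ N' := by
      rintro ⟨a, ha, haQ⟩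
      exact haQ (hJQ (Ideal.subset_span ha))
    have : Nontrivial (A ⧸ Q) := Ideal.Quotient.nontrivial_iff.2 (fun h1 => hQ2 (h1 ▸ trivial))
    let B := MonoidAlgebra (A ⧸ Q) (Multiplicative (N ⧸ N'))
    let x : A →+* B := (algebraMap (A ⧸ Q) B).comp (Ideal.Quotient.mk Q)
    let χ : Multiplicative N →* B := (MonoidAlgebra.of (A ⧸ Q) (Multiplicative (N ⧸ N'))).comp
      (AddMonoidHom.toMultiplicative (QuotientAddGroup.mk' N'))
    have hχ : χ = 1 := by
      apply h B x χ
      intro n a ha
      by_cases hn : n ∈ N'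
      · have h1 : χ (Multiplicative.ofAdd n) = 1 := by
          have : (QuotientAddGroup.mk' N') n = 0 := (QuotientAddGroup.eq_zero_iff n).2 hn
          change MonoidAlgebra.of (A ⧸ Q) (Multiplicative (N ⧸ N'))
            (Multiplicative.ofAdd ((QuotientAddGroup.mk' N') n)) = 1
          rw [this, ofAdd_zero, map_one]
        rw [h1, mul_one]
      · have h1 : a ∈ Q := by
          by_contra h1
          exact hn ⟨a, ha, h1⟩
        have h2 : x a = 0 := by
          change algebraMap (A ⧸ Q) B (Ideal.Quotient.mk Q a) = 0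
          rw [Ideal.Quotient.eq_zero_iff_mem.2 h1, map_zero]
        rw [h2, zero_mul]
    have h1 : χ (Multiplicative.ofAdd m) = 1 := by rw [hχ]; rfl
    have h2 : MonoidAlgebra.of (A ⧸ Q) (Multiplicative (N ⧸ N'))
        (Multiplicative.ofAdd ((QuotientAddGroup.mk' N') m)) =
        MonoidAlgebra.of (A ⧸ Q) (Multiplicative (N ⧸ N')) 1 := by
      rw [map_one]
      exact h1
    have h3 := MonoidAlgebra.of_injective h2
    have h4 : (QuotientAddGroup.mk' N') m = 0 := by simpa using congrArg Multiplicative.toAdd h3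
    exact hmN ((QuotientAddGroup.eq_zero_iff m).1 h4)
  apply C.free_of_span
  intro n
  have hn := key n
  rw [Ideal.span, Submodule.mem_span_iff_exists_finset_subset] at hn
  obtain ⟨f, t, ht, -, hf⟩ := hn
  have h1 : single (Multiplicative.ofAdd n) (1 : A) = ∑ a ∈ t, f a • C.ρ a := by
    rw [← hf]
    have : ∀ a ∈ t, f a • C.ρ a = single (Multiplicative.ofAdd n) (f a • a) := by
      intro a ha
      have h2 : C.IsHom n a := ht ha
      rw [h2, MonoidAlgebra.smul_single]
    rw [Finset.sum_congr rfl this]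
    exact (map_sum (MonoidAlgebra.singleAddHom (Multiplicative.ofAdd n)) _ _)
  rw [h1]
  exact sum_mem fun a _ => Submodule.smul_mem _ _ (Submodule.subset_span ⟨a, rfl⟩)

end K8.FreeAlg
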