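import Groth.Agent.Sga3B.AdPts
import Groth.Agent.SGA3x.K8.FreeAlg

/-!
# Free actions of diagonalisable groups on affine schemes: the graph is a closed immersion

`α : D(N) × X ⟶ X`, `X = Spec A` over `Spec R`, an action (on points); the attached coaction `coact α h`;
`isClosedImmersion_graph`: if `α` is free then `(t, x) ↦ (t x, x)` is a closed immersion.
-/

set_option autoImplicit false
universe u
open CategoryTheory MonoidalCategory CartesianMonoidalCategory MonObj GrpObj AlgebraicGeometry Limits

namespace K8.FreeAct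

open Groth.Agent.Sga3B
open FreeBC DSPts AdGrad AdPts

/-- An action, in terms of points. -/
structure IsPtAct {S : Scheme.{u}} {H X : Over S} [GrpObj H] (α : H ⊗ X ⟶ X) : Prop where
  one : ∀ {T : Over S} (x : T ⟶ X), lift (1 : T ⟶ H) x ≫ α = x
  mul : ∀ {T : Over S} (g h : T ⟶ H) (x : T ⟶ X), lift (g * h) x ≫ α = lift g (lift h x ≫ α) ≫ α

/-- A free action, in terms of points. -/
def IsFree {S : Scheme.{u}} {H X : Over S} [GrpObj H] (α : H ⊗ X ⟶ X) : Prop :=
  ∀ (T : Over S) (g : T ⟶ H) (x : T ⟶ X), lift g x ≫ α = x → g = 1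

variable {R A : Type u} [CommRing R] [CommRing A] [Algebra R A] {N : Type} [AddCommGroup N]

section coact

variable (α : Red.DS (Spec (CommRingCat.of R)) N ⊗ DE R A ⟶ DE R A)

/-- the coaction as a ring map -/
noncomputable def rhoHom : A →+* MonoidAlgebra A (Multiplicative N) :=
  ((RingEquiv.ofBijective _ (fn_id_bijective (R := R) (MonoidAlgebra A (Multiplicative N)))).symm :
    _ →+* MonoidAlgebra A (Multiplicative N)).comp (fn (lift (tU R A N) (gU R A N) ≫ α))

lemma fn_rhoHom (a : A) : fn (𝟙 (U R A N)) (rhoHom α a) = fn (lift (tU R A N) (gU R A N) ≫ α) a :=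
  (RingEquiv.ofBijective _ (fn_id_bijective (R := R) (MonoidAlgebra A (Multiplicative N)))).apply_symm_apply _

/-- the coaction attached to an action -/
noncomputable def rho : A →ₐ[R] MonoidAlgebra A (Multiplicative N) where
  __ := rhoHom α
  commutes' r := (fn_id_bijective (R := R) _).1 (by
    refine (fn_rhoHom α _).trans ?_
    rw [fn_algebraMap, fn_algebraMap])

lemma fn_rho (a : A) : fn (𝟙 (U R A N)) (rho α a) = fn (lift (tU R A N) (gU R A N) ≫ α) a := fn_rhoHom α a

/-- the action on functions -/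
lemma fn_act {X : Over (Spec (CommRingCat.of R))} (g : X ⟶ DE R A) (t : X ⟶ Red.DS (Spec (CommRingCat.of R)) N)
    (a : A) : fn (lift t g ≫ α) a = lft (fn g) (dsChar t) (rho α a) := by
  obtain ⟨v, h1, h2, h3⟩ := exists_pair g t
  rw [← h3, fn_eq v, fn_rho, ← fn_comp, comp_lift_assoc, h1, h2]

variable {α} (hα : IsPtAct α)

include hα in
lemma rho_counit (a : A) : ((rho α a).coeff.sum fun _ b => b) = a := by
  have h := fn_act α (𝟙 (DE R A)) 1 a
  rw [hα.one, lft_apply] at h
  apply (fn_id_bijective (R := R) A).1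
  rw [h, Finsupp.sum, Finsupp.sum, map_sum]
  refine Finset.sum_congr rfl fun n _ => ?_
  have : dsChar (1 : DE R A ⟶ Red.DS (Spec (CommRingCat.of R)) N) = 1 := by
    simp [dsChar]
  rw [this, MonoidHom.one_apply, _root_.mul_one]

include hα in
lemma rho_coassoc (a : A) (m : Multiplicative N) :
    rho α ((rho α a).coeff m) = MonoidAlgebra.single m ((rho α a).coeff m) := by
  let T := MonoidAlgebra (MonoidAlgebra A (Multiplicative N)) (Multiplicative N)
  -- the map to the universal pair
  obtain ⟨w, hw⟩ := exists_of_ringHom (R := R) (E := MonoidAlgebra A (Multiplicative N)) (X := DE R T)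
    ((fn (𝟙 (DE R T))).comp (algebraMap (MonoidAlgebra A (Multiplicative N)) T)) (by
      intro r
      rw [RingHom.comp_apply, ← IsScalarTower.algebraMap_apply R (MonoidAlgebra A (Multiplicative N)) T]
      exact fn_algebraMap _ _)
  let t₂ : DE R T ⟶ Red.DS (Spec (CommRingCat.of R)) N :=
    dsEquiv _ _ (((fn (𝟙 (DE R T))) : _ →* _).comp (MonoidAlgebra.of (MonoidAlgebra A (Multiplicative N)) (Multiplicative N)))
  have ht₂ : ∀ n, dsChar t₂ n = fn (𝟙 (DE R T)) (MonoidAlgebra.single n 1) := fun n => by
    simp only [t₂]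
    rw [dsChar_dsEquiv]
    rfl
  have key : lift t₂ (lift (w ≫ tU R A N) (w ≫ gU R A N) ≫ α) ≫ α =
      lift ((w ≫ tU R A N) * t₂) (w ≫ gU R A N) ≫ α := by
    rw [← hα.mul]
    congr 2
    apply (dsEquiv _ N).symm.injective
    change dsChar _ = dsChar _
    rw [dsChar_mul, dsChar_mul, _root_.mul_comm]
  have h1 : ∀ b, fn (lift (w ≫ tU R A N) (w ≫ gU R A N) ≫ α) b = fn (𝟙 _) (MonoidAlgebra.single 1 (rho α b) : T) := by
    intro b
    rw [← comp_lift_assoc, fn_comp, ← fn_rho, ← fn_comp, Category.comp_id, hw]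
    rfl
  have h2 : fn (lift t₂ (lift (w ≫ tU R A N) (w ≫ gU R A N) ≫ α) ≫ α) a =
      fn (𝟙 _) ((rho α a).coeff.sum fun n b => (MonoidAlgebra.single n (rho α b) : T)) := by
    rw [fn_act, lft_apply, Finsupp.sum, Finsupp.sum, map_sum]
    refine Finset.sum_congr rfl fun n _ => ?_
    rw [h1, ht₂, ← _root_.map_mul, MonoidAlgebra.single_mul_single, _root_.one_mul, _root_.mul_one]
  have h3 : ∀ b, fn (w ≫ gU R A N) b = fn (𝟙 _) (MonoidAlgebra.single 1 (MonoidAlgebra.single 1 b) : T) := by
    intro b
    rw [fn_comp, fn_gU, ← fn_eq, hw]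
    rfl
  have h4 : ∀ n, dsChar (w ≫ tU R A N) n =
      fn (𝟙 (DE R T)) (MonoidAlgebra.single 1 (MonoidAlgebra.single n 1) : T) := by
    intro n
    rw [dsChar_comp]
    refine (congrArg w.left.appTop (dsChar_tU n)).trans ?_
    rw [← fn_eq, hw]
    rfl
  have h5 : fn (lift ((w ≫ tU R A N) * t₂) (w ≫ gU R A N) ≫ α) a =
      fn (𝟙 _) ((rho α a).coeff.sum fun n b => (MonoidAlgebra.single n (MonoidAlgebra.single n b) : T)) := by
    rw [fn_act, lft_apply, Finsupp.sum, Finsupp.sum, map_sum]
    refine Finset.sum_congr rfl fun n _ => ?_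
    rw [h3, dsChar_mul, MonoidHom.mul_apply, h4, ht₂, ← _root_.map_mul, ← _root_.map_mul,
      MonoidAlgebra.single_mul_single, MonoidAlgebra.single_mul_single]
    simp only [_root_.one_mul, _root_.mul_one]
    rw [MonoidAlgebra.single_mul_single, _root_.one_mul, _root_.mul_one]
  rw [key, h5] at h2
  have h6 := (fn_id_bijective (R := R) T).1 h2
  have h7 := congrArg (fun y : T => y.coeff m) h6
  rw [coeff_sum_single (B := MonoidAlgebra A (Multiplicative N)) (rho α a)
      (fun n b => MonoidAlgebra.single n b) (by simp) m,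
    coeff_sum_single (B := MonoidAlgebra A (Multiplicative N)) (rho α a)
      (fun n b => rho α b) (by simp) m] at h7
  exact h7.symm

variable (α) in
/-- the coaction attached to an action of `D(N)` on `Spec A`. -/
noncomputable def coact (hα : IsPtAct α) : Coact R A N where
  ρ := rho α
  counit := rho_counit hα
  coassoc := rho_coassoc hα

/-- freeness -/
theorem coact_free (hfree : IsFree α) : (coact α hα).Free := by
  apply FreeAlg.free_of_points
  intro B _ x χ h
  let _ : Algebra R B := (x.comp (algebraMap R A)).toAlgebra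
  obtain ⟨g, hg⟩ := exists_of_ringHom (R := R) (E := A) (X := DE R B) ((fn (𝟙 (DE R B))).comp x) (by
    intro r
    exact fn_algebraMap (𝟙 (DE R B)) r)
  let t : DE R B ⟶ Red.DS (Spec (CommRingCat.of R)) N :=
    dsEquiv _ _ (((fn (𝟙 (DE R B))) : _ →* _).comp χ)
  have ht : ∀ n, dsChar t n = fn (𝟙 (DE R B)) (χ n) := fun n => by
    simp only [t]
    rw [dsChar_dsEquiv]
    rfl
  have h1 : lift t g ≫ α = g := by
    apply fn_injective
    intro a
    rw [fn_act, lft_apply]
    have h2 : ∀ n : Multiplicative N, fn g ((rho α a).coeff n) * dsChar t n = fn g ((rho α a).coeff n) := by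
      intro n
      rw [hg, ht, RingHom.comp_apply, ← _root_.map_mul]
      congr 1
      exact h n.toAdd _ (rho_coassoc hα a n)
    rw [Finsupp.sum, Finset.sum_congr rfl (fun n _ => h2 n), ← map_sum]
    congr 1
    exact rho_counit hα a
  have h2 := hfree _ t g h1
  have h3 : dsChar t = 1 := by
    rw [h2]
    simp [dsChar]
  refine MonoidHom.ext fun n => (fn_id_bijective (R := R) B).1 ?_
  rw [← ht, h3, MonoidHom.one_apply, MonoidHom.one_apply, _root_.map_one]

/-- homogeneous functions under the action -/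
lemma fn_act_of_isHom {X : Over (Spec (CommRingCat.of R))} (g : X ⟶ DE R A)
    (t : X ⟶ Red.DS (Spec (CommRingCat.of R)) N) {n : N} {a : A} (ha : (coact α hα).IsHom n a) :
    fn (lift t g ≫ α) a = fn g a * dsChar t (Multiplicative.ofAdd n) := by
  rw [fn_act]
  have h1 : rho α a = MonoidAlgebra.single (Multiplicative.ofAdd n) a := ha
  rw [h1, lft_single]

include hα in
/-- **The graph of a free action of `D(N)` on an affine scheme is a closed immersion.** -/
theorem isClosedImmersion_graph (hfree : IsFree α) :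
    IsClosedImmersion (lift α (snd (Red.DS (Spec (CommRingCat.of R)) N) (DE R A))).left := by
  let D := Red.DS (Spec (CommRingCat.of R)) N
  let X := DE R A
  obtain ⟨v, h1, h2, h3⟩ := exists_pair (snd D X) (fst D X)
  have hv : v ≫ lift (tU R A N) (gU R A N) = 𝟙 _ := by
    apply CartesianMonoidalCategory.hom_ext
    · rw [Category.assoc, lift_fst, h2, Category.id_comp]
    · rw [Category.assoc, lift_snd, h1, Category.id_comp]
  have hv' : lift (tU R A N) (gU R A N) ≫ v = 𝟙 _ := by
    apply fn_injective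
    intro x
    have e1 : fn v = lft (fn (snd D X)) (dsChar (fst D X)) := h3
    rw [fn_comp, e1, lft_apply, Finsupp.sum, map_sum]
    have e2 : ∀ n, (lift (tU R A N) (gU R A N)).left.appTop (fn (snd D X) (x.coeff n) * dsChar (fst D X) n) =
        fn (𝟙 (U R A N)) (MonoidAlgebra.single n (x.coeff n)) := by
      intro n
      rw [_root_.map_mul, ← fn_comp, lift_snd, fn_gU]
      have e3 : (lift (tU R A N) (gU R A N)).left.appTop (dsChar (fst D X) n) = dsChar (tU R A N) n := by
        have := dsChar_comp (lift (tU R A N) (gU R A N)) (fst D X)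
        rw [lift_fst] at this
        rw [this]
        rfl
      rw [e3, dsChar_tU, ← _root_.map_mul, MonoidAlgebra.single_mul_single, _root_.one_mul, _root_.mul_one]
    rw [Finset.sum_congr rfl (fun n _ => e2 n), ← map_sum]
    congr 1
    exact MonoidAlgebra.sum_coeff_single x
  let e : D ⊗ X ≅ U R A N := ⟨v, lift (tU R A N) (gU R A N), hv, hv'⟩
  let el : (D ⊗ X).left ≅ (U R A N).left := (Over.forget _).mapIso e
  have haff : IsAffine (D ⊗ X).left := .of_isIso el.hom
  have haff' : IsAffine (X ⊗ X).left := by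
    have : IsAffineHom X.hom := inferInstanceAs (IsAffineHom (Spec.map _))
    have h : IsAffineHom (Limits.pullback.snd X.hom X.hom) := inferInstance
    exact @isAffine_of_isAffineHom _ _ (Limits.pullback.snd X.hom X.hom) h inferInstance
  apply IsClosedImmersion.of_surjective_of_isAffine
  let γ₀ : D ⊗ X ⟶ X ⊗ X := lift α (snd D X)
  let Rg : Subring Γ((D ⊗ X).left, ⊤) := γ₀.left.appTop.hom.range
  have hA : ∀ a : A, fn (snd D X) a ∈ Rg := by
    intro a
    refine ⟨fn (snd X X) a, ?_⟩
    change γ₀.left.appTop (fn (snd X X) a) = _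
    rw [← fn_comp, lift_snd]
  have hA' : ∀ a : A, fn α a ∈ Rg := by
    intro a
    refine ⟨fn (fst X X) a, ?_⟩
    change γ₀.left.appTop (fn (fst X X) a) = _
    rw [← fn_comp, lift_fst]
  have hchar : ∀ n : Multiplicative N, dsChar (fst D X) n ∈ Rg := by
    intro n
    obtain ⟨k, uu, vv, hu, hvv, huv⟩ := coact_free hα hfree n.toAdd
    have e1 : dsChar (fst D X) n = ∑ i, fn (snd D X) (uu i) * fn α (vv i) := by
      have e2 : ∀ i, fn α (vv i) = fn (snd D X) (vv i) * dsChar (fst D X) n := by
        intro i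
        have := fn_act_of_isHom hα (snd D X) (fst D X) (hvv i)
        rw [lift_fst_snd, Category.id_comp] at this
        rw [this]
        rfl
      rw [Finset.sum_congr rfl (fun i _ => by rw [e2 i, ← _root_.mul_assoc, ← _root_.map_mul]),
        ← Finset.sum_mul, ← map_sum, huv, _root_.map_one, _root_.one_mul]
    rw [e1]
    exact sum_mem fun i _ => mul_mem (hA _) (hA' _)
  have hfn : ∀ x, fn v x ∈ Rg := by
    intro x
    rw [h3, lft_apply]
    exact sum_mem fun n _ => mul_mem (hA _) (hchar n)
  intro y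
  have e1 : IsIso v.left := inferInstanceAs (IsIso el.hom)
  have e2 : Function.Surjective v.left.appTop := by
    have : IsIso v.left.appTop := inferInstanceAs (IsIso (Scheme.Γ.map v.left.op))
    exact (ConcreteCategory.bijective_of_isIso v.left.appTop).2
  obtain ⟨y', rfl⟩ := e2 y
  obtain ⟨x, rfl⟩ := (fn_id_bijective (R := R) (MonoidAlgebra A (Multiplicative N))).2 y'
  obtain ⟨z, hz⟩ := hfn x
  refine ⟨z, ?_⟩
  rw [← fn_eq]
  exact hz

end coact

end K8.FreeAct
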