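import Groth.Agent.SGA3x.K8.FpqcCover
import Groth.Agent.SGA3x.K8.FreeAct
import Groth.Agent.SGA3x.K21.MultLoc
import Groth.Agent.Sga3.H830.OrbitBc
import Groth.Agent.Agf.H584.QExt

/-!
# Free actions of groups of multiplicative type on affine schemes: the graph is a closed immersion
-/

set_option autoImplicit false
universe u
open CategoryTheory MonoidalCategory CartesianMonoidalCategory MonObj GrpObj AlgebraicGeometry Limits

namespace K8.FreeMain

open Groth.Agent.Sga3B
open FreeBC DSPts AdGrad AdPts FreeAct K7.Loc K21.MultLoc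
open Groth.Agent.Sga3.H830.OrbitBc Groth.Agent.Agf.H585.QuotBc Groth.Agent.Agf.H584

lemma isPtAct {S : Scheme.{u}} {G X : Over S} [GrpObj G] (a : AlgGrp.Action G X) : IsPtAct a.act where
  one {T} x := by
    have h : lift (toUnit T) x ≫ (η[G] ▷ X) ≫ a.act = lift (toUnit T) x ≫ (λ_ X).hom :=
      congrArg (fun t => lift (toUnit T) x ≫ t) a.one_act
    rw [← Category.assoc, lift_whiskerRight] at h
    have e : (toUnit T ≫ η[G] : T ⟶ G) = 1 := rfl
    rw [e] at h
    rw [h, leftUnitor_hom, lift_snd]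
  mul {T} g h x := by
    have h1 : lift (lift g h) x ≫ (μ[G] ▷ X) ≫ a.act =
        lift (lift g h) x ≫ (α_ G G X).hom ≫ (G ◁ a.act) ≫ a.act :=
      congrArg (fun t => lift (lift g h) x ≫ t) a.mul_act
    rw [← Category.assoc, lift_whiskerRight] at h1
    have e : (lift g h ≫ μ[G] : T ⟶ G) = g * h := rfl
    rw [e] at h1
    rw [h1, ← Category.assoc, ← Category.assoc]
    congr 1
    apply CartesianMonoidalCategory.hom_ext
    · simp
    · simp only [Category.assoc, whiskerLeft_snd, lift_snd]
      rw [← Category.assoc, ← Category.assoc]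
      congr 1
      apply CartesianMonoidalCategory.hom_ext
      · simp
      · simp

/-- Affine schemes over `Spec R`. -/
lemma exists_iso_DE {R : Type u} [CommRing R] (X : Over (Spec (CommRingCat.of R))) (hX : IsAffineHom X.hom) :
    ∃ (A : Type u) (_ : CommRing A) (_ : Algebra R A), Nonempty (X ≅ DE R A) := by
  have : IsAffine X.left := isAffine_of_isAffineHom X.hom
  let A : Type u := Γ(X.left, ⊤)
  let ψ : CommRingCat.of R ⟶ CommRingCat.of A := (Scheme.ΓSpecIso (CommRingCat.of R)).inv ≫ X.hom.appTop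
  let _ : Algebra R A := ψ.hom.toAlgebra
  refine ⟨A, inferInstance, inferInstance, ⟨Over.isoMk X.left.isoSpec ?_⟩⟩
  change X.left.isoSpec.hom ≫ Spec.map ψ = X.hom
  have h1 := Scheme.isoSpec_hom_naturality X.hom
  simp only [ψ]
  rw [Spec.map_comp, ← Category.assoc]
  rw [h1, Category.assoc]
  convert Category.comp_id _ using 2
  simp [Scheme.isoSpec_hom]

section bc

variable {S S' : Scheme.{u}} {G X : Over S} [GrpObj G]

/-- transport of point actions -/
lemma isPtAct_transport {H H' X X' : Over S} [GrpObj H] [GrpObj H'] {α : H ⊗ X ⟶ X} (hα : IsPtAct α)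
    (e : H' ⟶ H) [IsMonHom e] (ψ : X' ≅ X) :
    IsPtAct ((e ⊗ₘ ψ.hom) ≫ α ≫ ψ.inv) where
  one {T} x := by
    rw [lift_map_assoc, one_comp, ← Category.assoc, hα.one, Category.assoc, Iso.hom_inv_id, Category.comp_id]
  mul {T} g h x := by
    rw [lift_map_assoc, lift_map_assoc, lift_map_assoc, mul_comp, ← Category.assoc, hα.mul]
    simp

lemma isFree_transport {H H' X X' : Over S} [GrpObj H] [GrpObj H'] {α : H ⊗ X ⟶ X} (hα : IsFree α)
    (e : H' ⟶ H) [IsMonHom e] [Mono e] (ψ : X' ≅ X) :
    IsFree ((e ⊗ₘ ψ.hom) ≫ α ≫ ψ.inv) := by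
  intro T g x h
  rw [lift_map_assoc, ← Category.assoc, Iso.comp_inv_eq] at h
  have h1 := hα T (g ≫ e) (x ≫ ψ.hom) h
  rw [← cancel_mono e, h1, one_comp]

/-- freeness is stable under base change -/
lemma isFree_bc (g : S' ⟶ S) (a : AlgGrp.Action G X) (hfree : IsFree a.act) : IsFree (bcAct g a).act := by
  intro T t x h
  let t' := (BcPts.bcEquiv g T G).symm t
  let x' := (BcPts.bcEquiv g T X).symm x
  have ht : BcPts.bcEquiv g T G t' = t := Equiv.apply_symm_apply _ _
  have hx : BcPts.bcEquiv g T X x' = x := Equiv.apply_symm_apply _ _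
  rw [← ht, ← hx, lift_bcAct] at h
  have h1 := hfree _ t' x' ((BcPts.bcEquiv g T X).injective h)
  rw [← ht, h1]
  exact BcPts.bcEquiv_one g

/-- the graph after base change -/
lemma has_graph {P : MorphismProperty Scheme.{u}} [P.IsStableUnderBaseChange] (g : S' ⟶ S)
    (a : AlgGrp.Action G X) {H' X' : Over S'} [GrpObj H'] (e : H' ≅ Red.bc g G) [IsMonHom e.hom]
    (ψ : X' ≅ Red.bc g X)
    (h : P (lift ((e.hom ⊗ₘ ψ.hom) ≫ (bcAct g a).act ≫ ψ.inv) (snd H' X')).left) :
    Has P (lift a.act (snd G X)) g := by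
  let F := Over.pullback g
  refine (has_iff_of_iso (lift ((e.hom ⊗ₘ ψ.hom) ≫ (bcAct g a).act ≫ ψ.inv) (snd H' X'))
    ((Functor.Monoidal.μIso F G X).symm ≪≫ (e.symm ⊗ᵢ ψ.symm))
    ((Functor.Monoidal.μIso F X X).symm ≪≫ (ψ.symm ⊗ᵢ ψ.symm)) ?_).2 h
  have hact : (bcAct g a).act = Functor.LaxMonoidal.μ F G X ≫ F.map a.act := rfl
  apply CartesianMonoidalCategory.hom_ext
  · simp only [Iso.trans_hom, Iso.symm_hom, Category.assoc, lift_fst, tensorIso_hom, tensorHom_fst,
      Functor.Monoidal.μIso_inv]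
    rw [Functor.OplaxMonoidal.δ_fst_assoc, ← Functor.map_comp_assoc, lift_fst]
    rw [tensorHom_comp_tensorHom_assoc]
    simp only [Iso.inv_hom_id]
    rw [id_tensorHom_id, Category.id_comp, hact, Category.assoc, Functor.Monoidal.δ_μ_assoc]
  · simp only [Iso.trans_hom, Iso.symm_hom, Category.assoc, lift_snd, tensorIso_hom, tensorHom_snd,
      Functor.Monoidal.μIso_inv]
    rw [Functor.OplaxMonoidal.δ_snd_assoc, ← Functor.map_comp_assoc, lift_snd,
      Functor.OplaxMonoidal.δ_snd_assoc]

end bc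

/-- **The graph of a free action of a group of multiplicative type on an affine scheme is closed.** -/
theorem isClosedImmersion_graph {S : Scheme.{u}} {G X : Over S} [GrpObj G] (hG : IsMult G)
    (hX : IsAffineHom X.hom) (a : AlgGrp.Action G X) (hfree : IsFree a.act) :
    IsClosedImmersion (lift a.act (snd G X)).left := by
  obtain ⟨S', f, h1, h2, h3, h4⟩ := hG
  refine FpqcCover.of_cover (P := @IsClosedImmersion) (lift a.act (snd G X)) f h3 fun s' => ?_
  obtain ⟨U, hU, M, _, ⟨e⟩⟩ := h4 s'
  refine ⟨U, hU, FpqcCover.has_of_spec _ _ fun V hV => ?_⟩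
  let g : Spec (CommRingCat.of Γ((U : Scheme.{u}), V)) ⟶ S := hV.fromSpec ≫ U.ι ≫ f
  change Has @IsClosedImmersion (lift a.act (snd G X)) g
  -- the group splits over `g`
  obtain ⟨e'⟩ := TorusAlgClosed.isSplitTorusWith_bc hV.fromSpec (M := M) (T := Red.bc (U.ι ≫ f) G) ⟨e⟩
  let e₁ : Grp.mk (Red.bc g G) ≅ Grp.mk (Red.DS (Spec (CommRingCat.of Γ((U : Scheme.{u}), V))) M) :=
    BcIso.bcCompIso _ _ _ ≪≫ e'
  let e₂ : Red.DS (Spec (CommRingCat.of Γ((U : Scheme.{u}), V))) M ≅ Red.bc g G :=
    (Grp.forget _).mapIso e₁.symm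
  have : IsMonHom e₂.hom := e₁.symm.hom.hom.isMonHom_hom
  have hX' : IsAffineHom (Red.bc g X).hom := inferInstanceAs (IsAffineHom (pullback.snd X.hom g))
  obtain ⟨A, _, _, ⟨ψ⟩⟩ := exists_iso_DE (Red.bc g X) hX'
  apply has_graph g a e₂ ψ.symm
  exact FreeAct.isClosedImmersion_graph (isPtAct_transport (isPtAct (bcAct g a)) e₂.hom ψ.symm)
    (isFree_transport (isFree_bc g a hfree) e₂.hom ψ.symm)

/-- **Orbit maps of free actions of groups of multiplicative type on affine schemes are closed immersions.** -/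
theorem isClosedImmersion_orbitMap {S : Scheme.{u}} {G X : Over S} [GrpObj G] (hG : IsMult G)
    (hX : IsAffineHom X.hom) (a : AlgGrp.Action G X) (hfree : IsFree a.act) (σ : 𝟙_ (Over S) ⟶ X) :
    IsClosedImmersion (a.orbitMap σ).left := by
  have h := isClosedImmersion_graph hG hX a hfree
  have h1 : IsPullback (lift (𝟙 G) (toUnit G ≫ σ)) (a.orbitMap σ) (lift a.act (snd G X))
      (lift (𝟙 X) (toUnit X ≫ σ)) := by
    refine QExt.isPullback_of_points _ _ _ _ ?_ ?_ ?_
    · apply CartesianMonoidalCategory.hom_ext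
      · simp [AlgGrp.Action.orbitMap]
      · simp only [lift_snd, comp_lift]
        rw [← Category.assoc, toUnit_unique (a.orbitMap σ ≫ toUnit X) (toUnit G)]
    · intro T x y hxy
      have e1 := congrArg (fun t => t ≫ fst X X) hxy
      have e2 := congrArg (fun t => t ≫ snd X X) hxy
      simp only [Category.assoc, lift_fst, lift_snd, Category.comp_id] at e1 e2
      have e3 : x = lift (x ≫ fst G X) (toUnit T ≫ σ) := by
        apply CartesianMonoidalCategory.hom_ext
        · rw [lift_fst]
        · rw [lift_snd, e2, ← Category.assoc]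
          congr 1
          exact toUnit_unique _ _
      refine ⟨x ≫ fst G X, ?_, ?_⟩
      · rw [comp_lift, Category.comp_id]
        conv_rhs => rw [e3]
        congr 1
        rw [← Category.assoc]
        congr 1
        exact toUnit_unique _ _
      · rw [← e1, AlgGrp.Action.orbitMap, comp_lift_assoc, Category.comp_id]
        conv_rhs => rw [e3]
        congr 2
        rw [← Category.assoc]
        congr 1
        exact toUnit_unique _ _
    · intro T z z' h1 h2
      have := congrArg (fun t => t ≫ fst G X) h1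
      simpa using this
  exact QExt.of_isPullback' (P := @IsClosedImmersion) h1 h

end K8.FreeMain
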