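import Groth.Agent.SGA3x.K8.SubLift
import Groth.Agent.SGA3x.K21.ClosedCond
import Groth.Agent.SGA3x.K5.MTNorm
import Groth.Agent.S5272
import Groth.Agent.Sga3B.CentSmooth

/-!
# The strict transporter of a subgroup of multiplicative type into another one is smooth

* `transp_lift`: infinitesimal lifting;
* `exists_transporter`.
-/

set_option autoImplicit false
universe u
open CategoryTheory MonoidalCategory CartesianMonoidalCategory MonObj GrpObj AlgebraicGeometry Limits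

namespace K8.TranspSub

open Groth.Agent Groth.Agent.Sga3B Groth.Agent.Sga3B.BcPts Groth.Agent.Sga3B.InfConjFam K21.MultLoc

section pts

variable {S S' : Scheme.{u}} {x : S' ⟶ S}

/-- Points of a base change, seen over `S`. -/
noncomputable def E {T : Over S} (t : T ⟶ Over.mk x) (X : Over S) : (Over.mk t.left ⟶ Red.bc x X) ≃ (T ⟶ X) :=
  (bcEquiv x (Over.mk t.left) X).symm.trans (overIso t).homFromEquiv

lemma E_apply {T : Over S} (t : T ⟶ Over.mk x) (X : Over S) (b : Over.mk t.left ⟶ Red.bc x X) :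
    E t X b = (overIso t).inv ≫ (bcEquiv x (Over.mk t.left) X).symm b := rfl

lemma E_comp {T : Over S} (t : T ⟶ Over.mk x) {X Y : Over S} (b : Over.mk t.left ⟶ Red.bc x X) (f : X ⟶ Y) :
    E t Y (b ≫ (Over.pullback x).map f) = E t X b ≫ f := by
  rw [E_apply, E_apply, bcEquiv_symm_comp, Category.assoc]

lemma E_mul {T : Over S} (t : T ⟶ Over.mk x) {G : Over S} [GrpObj G] (b c : Over.mk t.left ⟶ Red.bc x G) :
    E t G (b * c) = E t G b * E t G c := by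
  rw [E_apply, E_apply, E_apply, ← comp_mul]
  congr 1
  exact (bcMulEquiv x _ G).symm.map_mul _ _

lemma E_one {T : Over S} (t : T ⟶ Over.mk x) {G : Over S} [GrpObj G] :
    E t G (1 : Over.mk t.left ⟶ Red.bc x G) = 1 := by
  have h := E_mul t (1 : Over.mk t.left ⟶ Red.bc x G) 1
  rw [_root_.mul_one] at h
  exact left_eq_mul.1 h

lemma E_inv {T : Over S} (t : T ⟶ Over.mk x) {G : Over S} [GrpObj G] (b : Over.mk t.left ⟶ Red.bc x G) :
    E t G b⁻¹ = (E t G b)⁻¹ := by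
  rw [eq_inv_iff_mul_eq_one, ← E_mul, inv_mul_cancel, E_one]

variable (x) in
/-- the unit object over `S'`, seen over `S` -/
noncomputable def ε : (Over.map x).obj (𝟙_ (Over S')) ≅ Over.mk x :=
  Over.isoMk (Iso.refl _) (by
    change 𝟙 _ ≫ x = 𝟙 _ ≫ x
    rfl)

/-- sections of the base change -/
noncomputable def sec {G : Over S} (g : Over.mk x ⟶ G) : 𝟙_ (Over S') ⟶ Red.bc x G :=
  bcEquiv x _ G ((ε x).hom ≫ g)

lemma sec_surjective {G : Over S} (g : 𝟙_ (Over S') ⟶ Red.bc x G) : ∃ g' : Over.mk x ⟶ G, sec g' = g :=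
  ⟨(ε x).inv ≫ (bcEquiv x _ G).symm g, by
    rw [sec, Iso.hom_inv_id_assoc, Equiv.apply_symm_apply]⟩

lemma toUnit_sec {G : Over S} (g : Over.mk x ⟶ G) (T : Over S') :
    toUnit T ≫ sec g = bcEquiv x T G ((Over.homMk T.hom : (Over.map x).obj T ⟶ Over.mk x) ≫ g) := by
  rw [sec, ← comp_bcEquiv, ← Category.assoc]
  congr 2

lemma E_sec {T : Over S} (t : T ⟶ Over.mk x) {G : Over S} (g : Over.mk x ⟶ G) :
    E t G (toUnit _ ≫ sec g) = t ≫ g := by
  rw [toUnit_sec, E_apply, Equiv.symm_apply_apply, ← Category.assoc]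
  congr 1

end pts

variable {S : Scheme.{u}} {G H₁ H₂ : Over S} [GrpObj G] [GrpObj H₁] [GrpObj H₂]

/-- points of the strict transporter -/
def TrPts (i₁ : H₁ ⟶ G) (i₂ : H₂ ⟶ G) (T : Over S) : Set (T ⟶ G) :=
  {g | ∀ (X' : Over S) (x : X' ⟶ T),
    (∀ h₁ : X' ⟶ H₁, ∃ h₂ : X' ⟶ H₂, (x ≫ g) * (h₁ ≫ i₁) * (x ≫ g)⁻¹ = h₂ ≫ i₂) ∧
    (∀ h₂ : X' ⟶ H₂, ∃ h₁ : X' ⟶ H₁, (x ≫ g)⁻¹ * (h₂ ≫ i₂) * (x ≫ g) = h₁ ≫ i₁)}

/-- **Infinitesimal lifting for the strict transporter.** -/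
theorem transp_lift (hH₁ : IsMult H₁) (hH₂ : IsMult H₂) (i₁ : H₁ ⟶ G) [IsMonHom i₁] [Mono i₁]
    (i₂ : H₂ ⟶ G) [IsMonHom i₂] [Mono i₂] {B : Type u} [CommRing B] (I : Ideal B) (hI : I * I = ⊥)
    (x : Spec (CommRingCat.of B) ⟶ S) (g₁ : Over.mk x ⟶ G) (h : redMap x I ≫ g₁ ∈ TrPts i₁ i₂ _) :
    ∃ w : Over.mk x ⟶ G, redMap x I ≫ w = 1 ∧ w⁻¹ * g₁ ∈ TrPts i₁ i₂ _ := by
  let i₀ : Spec (CommRingCat.of (B ⧸ I)) ⟶ Spec (CommRingCat.of B) :=
    Spec.map (CommRingCat.ofHom (Ideal.Quotient.mk I))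
  have hci : IsClosedImmersion i₀ := IsClosedImmersion.spec_of_surjective _ Ideal.Quotient.mk_surjective
  have hsurj : Surjective i₀ := by
    constructor
    intro y
    have h1 : y ∈ Set.range (PrimeSpectrum.comap (Ideal.Quotient.mk I)) := by
      rw [range_comap_of_surjective _ _ Ideal.Quotient.mk_surjective]
      intro z hz
      rw [SetLike.mem_coe, Ideal.mk_ker] at hz
      have h2 : z * z ∈ I * I := Ideal.mul_mem_mul hz hz
      rw [hI] at h2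
      have h3 : z * z ∈ y.asIdeal := by
        rw [show z * z = 0 from h2]
        exact y.asIdeal.zero_mem
      rcases y.2.mem_or_mem h3 with h | h <;> exact h
    exact h1
  let gB : 𝟙_ (Over (Spec (CommRingCat.of B))) ⟶ Red.bc x G := sec g₁
  let j₁ : Red.bc x H₁ ⟶ Red.bc x G := (toUnit _ ≫ gB) * (Over.pullback x).map i₁ * (toUnit _ ≫ gB)⁻¹
  let j₂ : Red.bc x H₂ ⟶ Red.bc x G := (Over.pullback x).map i₂
  have hj₁ : ∀ {T : Over (Spec (CommRingCat.of B))} (a : T ⟶ Red.bc x H₁),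
      a ≫ j₁ = (toUnit _ ≫ gB) * (a ≫ (Over.pullback x).map i₁) * (toUnit _ ≫ gB)⁻¹ := by
    intro T a
    simp only [j₁, MonObj.comp_mul, GrpObj.comp_inv]
    rw [← Category.assoc a (toUnit _) gB, toUnit_unique (a ≫ toUnit _) (toUnit _)]
  have hm₁ : IsMonHom j₁ := by
    refine isMonHom_of_mul _ fun T a b => ?_
    rw [hj₁, hj₁, hj₁, MonObj.mul_comp]
    group
  have hmono₁ : Mono j₁ := by
    constructor
    intro T a b hab
    rw [hj₁, hj₁, mul_left_inj, mul_right_inj] at hab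
    exact (cancel_mono _).1 hab
  have hmono₂ : Mono j₂ := inferInstance
  -- the condition over `B / I`
  have hpt : ∀ {T : Over (Spec (CommRingCat.of B))} (t : T ⟶ Over.mk i₀),
      ∃ t' : (Over.map x).obj T ⟶ Over.mk (i₀ ≫ x),
        t' ≫ redMap x I = (Over.homMk T.hom : (Over.map x).obj T ⟶ Over.mk x) := by
    intro T t
    refine ⟨Over.homMk t.left ?_, ?_⟩
    · have := Over.w t
      simp only [Over.mk_hom] at this
      simp [← this]
    · apply Over.OverMorphism.ext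
      exact Over.w t
  have h1 : ∀ (T : Over (Spec (CommRingCat.of B))) (_ : T ⟶ Over.mk i₀) (a : T ⟶ Red.bc x H₁),
      ∃ b : T ⟶ Red.bc x H₂, b ≫ j₂ = a ≫ j₁ := by
    intro T t a
    obtain ⟨a', rfl⟩ := (bcEquiv x T H₁).surjective a
    obtain ⟨t', ht'⟩ := hpt t
    obtain ⟨b', hb'⟩ := (h _ t').1 a'
    refine ⟨bcEquiv x T H₂ b', ?_⟩
    rw [hj₁, ← bcEquiv_comp, ← bcEquiv_comp, ← hb', toUnit_sec, ← ht', Category.assoc]
    simp only [bcEquiv_mul]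
    congr 1
    exact (bcMulEquiv x _ G).map_inv _
  have h2 : ∀ (T : Over (Spec (CommRingCat.of B))) (_ : T ⟶ Over.mk i₀) (a : T ⟶ Red.bc x H₂),
      ∃ b : T ⟶ Red.bc x H₁, b ≫ j₁ = a ≫ j₂ := by
    intro T t a
    obtain ⟨a', rfl⟩ := (bcEquiv x T H₂).surjective a
    obtain ⟨t', ht'⟩ := hpt t
    obtain ⟨b', hb'⟩ := (h _ t').2 a'
    refine ⟨bcEquiv x T H₁ b', ?_⟩
    have e1 : a' ≫ i₂ = (t' ≫ redMap x I ≫ g₁) * (b' ≫ i₁) * (t' ≫ redMap x I ≫ g₁)⁻¹ := by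
      rw [← hb']
      group
    rw [hj₁, ← bcEquiv_comp, ← bcEquiv_comp, e1, toUnit_sec, ← ht', Category.assoc]
    simp only [bcEquiv_mul]
    congr 1
    exact ((bcMulEquiv x _ G).map_inv _).symm
  obtain ⟨φ, hφ, hφ1⟩ := SubLift.exists_iso_lift_pts i₀ (isMult_bc x hH₁) (isMult_bc x hH₂) j₁ j₂ h1 h2
  obtain ⟨g, hg, hg2⟩ := Groth.Agent.S5272.result I (by rw [pow_two, hI]) (Red.bc x H₁) (Red.bc x G) (isMult_bc x hH₁)
    j₁ (φ.hom ≫ j₂) (fun X p a => (hφ1 a p).symm)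
  obtain ⟨g', hg'⟩ := sec_surjective g
  refine ⟨g'⁻¹, ?_, ?_⟩
  · rw [GrpObj.comp_inv, inv_eq_one, ← E_sec (x := x) (redMap x I) g']
    rw [hg']
    exact (congrArg (E (redMap x I) G) hg).trans (E_one _)
  · rw [_root_.inv_inv]
    intro X t
    have key : ∀ a : Over.mk t.left ⟶ Red.bc x H₁,
        E t H₂ (a ≫ φ.hom) ≫ i₂ = (t ≫ (g' * g₁)) * (E t H₁ a ≫ i₁) * (t ≫ (g' * g₁))⁻¹ := by
      intro a
      have e1 := hg2 _ a
      rw [hj₁, ← Category.assoc] at e1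
      have e2 := congrArg (E t G) e1
      rw [E_comp] at e2
      rw [e2]
      rw [E_mul (x := x) t (G := G)]
      rw [E_mul, E_inv, E_mul, E_mul, E_inv, E_comp, ← hg', E_sec, E_sec, MonObj.comp_mul, _root_.mul_inv_rev]
      group
    constructor
    · intro h₁
      obtain ⟨a, rfl⟩ := (E t H₁).surjective h₁
      exact ⟨E t H₂ (a ≫ φ.hom), (key a).symm⟩
    · intro h₂
      obtain ⟨b, rfl⟩ := (E t H₂).surjective h₂
      refine ⟨E t H₁ (b ≫ φ.inv), ?_⟩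
      have e1 := key (b ≫ φ.inv)
      rw [Category.assoc, Iso.inv_hom_id, Category.comp_id] at e1
      rw [e1]
      group

/-- **The strict transporter of subgroups of multiplicative type is closed and smooth.** -/
theorem exists_transporter (hH₁ : SGA3x.IsMultTypeFT H₁) (hH₂ : SGA3x.IsMultTypeFT H₂) [Smooth G.hom]
    [IsAffineHom G.hom] (i₁ : H₁ ⟶ G) [IsMonHom i₁] [Mono i₁] (i₂ : H₂ ⟶ G) [IsMonHom i₂] [Mono i₂] :
    ∃ (T : Over S) (j : T ⟶ G), IsClosedImmersion j.left ∧ Smooth T.hom ∧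
      ∀ (X : Over S) (g : X ⟶ G), (∃ t : X ⟶ T, t ≫ j = g) ↔ g ∈ TrPts i₁ i₂ X := by
  have hc₁ := Groth.Agent.SGA3x.K5.MTNorm.isClosedImmersion_of_mono i₁ hH₁
  have hc₂ := Groth.Agent.SGA3x.K5.MTNorm.isClosedImmersion_of_mono i₂ hH₂
  have hlfp₁ : LocallyOfFinitePresentation i₁.left := by
    have : LocallyOfFinitePresentation (i₁.left ≫ G.hom) := by
      rw [Over.w]; exact K10.MTLoc.locallyOfFinitePresentation hH₁
    exact Groth.Agent.Ega43.FPOfComp.locallyOfFinitePresentation_of_comp _ G.hom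
  have hlfp₂ : LocallyOfFinitePresentation i₂.left := by
    have : LocallyOfFinitePresentation (i₂.left ≫ G.hom) := by
      rw [Over.w]; exact K10.MTLoc.locallyOfFinitePresentation hH₂
    exact Groth.Agent.Ega43.FPOfComp.locallyOfFinitePresentation_of_comp _ G.hom
  obtain ⟨Z₁, z₁, hz₁, hu₁, hf₁⟩ := K21.ClosedCond.exists_closed_map (X := G) (Q := H₁)
    (isMult_of_isMultTypeFT hH₁) (fst G H₁ * (snd G H₁ ≫ i₁) * (fst G H₁)⁻¹) i₂
  obtain ⟨Z₂, z₂, hz₂, hu₂, hf₂⟩ := K21.ClosedCond.exists_closed_map (X := G) (Q := H₂)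
    (isMult_of_isMultTypeFT hH₂) ((fst G H₂)⁻¹ * (snd G H₂ ≫ i₂) * (fst G H₂)) i₁
  obtain ⟨Z, z, hz, hu, hf⟩ := K21.ClosedCond.exists_inter z₁ z₂
  have hlfp := hf (hf₁ hlfp₂) (hf₂ hlfp₁)
  have huniv : ∀ (X : Over S) (g : X ⟶ G), (∃ t : X ⟶ Z, t ≫ z = g) ↔ g ∈ TrPts i₁ i₂ X := by
    intro X g
    rw [hu, hu₁, hu₂]
    have e1 : ∀ (X' : Over S) (x : X' ⟶ X) (h : X' ⟶ H₁),
        lift (x ≫ g) h ≫ (fst G H₁ * (snd G H₁ ≫ i₁) * (fst G H₁)⁻¹) = (x ≫ g) * (h ≫ i₁) * (x ≫ g)⁻¹ := by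
      intro X' x h
      simp only [MonObj.comp_mul, GrpObj.comp_inv, lift_fst, lift_snd_assoc]
    have e2 : ∀ (X' : Over S) (x : X' ⟶ X) (h : X' ⟶ H₂),
        lift (x ≫ g) h ≫ ((fst G H₂)⁻¹ * (snd G H₂ ≫ i₂) * (fst G H₂)) = (x ≫ g)⁻¹ * (h ≫ i₂) * (x ≫ g) := by
      intro X' x h
      simp only [MonObj.comp_mul, GrpObj.comp_inv, lift_fst, lift_snd_assoc]
    simp only [e1, e2]
    constructor
    · rintro ⟨h1, h2⟩ X' x
      exact ⟨fun h => (h1 X' x h).imp fun _ h => h.symm, fun h => (h2 X' x h).imp fun _ h => h.symm⟩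
    · intro h
      exact ⟨fun X' x a => ((h X' x).1 a).imp fun _ h => h.symm, fun X' x a => ((h X' x).2 a).imp fun _ h => h.symm⟩
  refine ⟨Z, z, hz, ?_, huniv⟩
  have hmono : Mono z := Over.mono_of_mono_left z
  refine CentSmooth.smooth_of_lift z (TrPts i₁ i₂) huniv (𝟙 S) (fun V hV => ⟨V, hV.isCompact, by simp⟩)
    fun s' => ⟨⊤, trivial, ?_⟩
  intro B _ _ I hI x β _ g₁ hg₁
  exact transp_lift (isMult_of_isMultTypeFT hH₁) (isMult_of_isMultTypeFT hH₂) i₁ i₂ I hI x g₁ hg₁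

end K8.TranspSub
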