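import Groth.Agent.SGA3x.K9.Rigid

/-!
# Subgroups of multiplicative type of `G` which coincide modulo a nilpotent ideal are isomorphic
-/

set_option autoImplicit false
universe u
open CategoryTheory MonoidalCategory CartesianMonoidalCategory MonObj GrpObj AlgebraicGeometry Limits

namespace K8.SubLift

open Groth.Agent.Sga3B Groth.Agent.Sga3B.BcPts K9.Rigid K9.Glue

variable {S S₀ : Scheme.{u}} (i₀ : S₀ ⟶ S)

/-- points over `S₀` -/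
lemma exists_family' {G H H' : Over S} [GrpObj G] [GrpObj H] [GrpObj H'] (i : H ⟶ G) [IsMonHom i] (i' : H' ⟶ G)
    [IsMonHom i'] [Mono i'] (h : ∀ (T : Over S) (_ : T ⟶ Over.mk i₀) (a : T ⟶ H), ∃ b : T ⟶ H', b ≫ i' = a ≫ i) :
    ∃ φ : H ⊗ Over.mk i₀ ⟶ H', AutFam.IsHomFamily H H' φ ∧
      ∀ {T : Over S} (h : T ⟶ H) (t : T ⟶ Over.mk i₀), (lift h t ≫ φ) ≫ i' = h ≫ i := by
  obtain ⟨φ, hφ⟩ := h (H ⊗ Over.mk i₀) (snd _ _) (fst _ _)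
  have key : ∀ {T : Over S} (h : T ⟶ H) (t : T ⟶ Over.mk i₀), (lift h t ≫ φ) ≫ i' = h ≫ i := by
    intro T a t
    rw [Category.assoc, hφ, lift_fst_assoc]
  refine ⟨φ, ?_, fun a t => key a t⟩
  intro T a b t
  rw [← cancel_mono i', key, MonObj.mul_comp, MonObj.mul_comp, key, key]

variable {i₀} in
/-- points over `S₀` -/
lemma exists_point {G H H' : Over S} (i : H ⟶ G) (i' : H' ⟶ G) (ψ : Red.bc i₀ H ⟶ Red.bc i₀ H')
    (h : ψ ≫ (Over.pullback i₀).map i' = (Over.pullback i₀).map i) (T : Over S) (t : T ⟶ Over.mk i₀) (a : T ⟶ H) :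
    ∃ b : T ⟶ H', b ≫ i' = a ≫ i := by
  refine ⟨ev ψ a t, ?_⟩
  rw [ev, Category.assoc, ← bcEquiv_symm_comp, Category.assoc, h,
      ← bcEquiv_comp, Equiv.symm_apply_apply, Category.assoc, Iso.inv_hom_id_assoc]

variable [IsClosedImmersion i₀] [Surjective i₀]

/-- **Lifting of isomorphisms of subgroups.** -/
theorem exists_iso_lift {G H H' : Over S} [GrpObj G] [GrpObj H] [GrpObj H']
    (hc : Covers (AffP (Split₂ H H'))) (hc' : Covers (AffP (Split₂ H' H)))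
    (hc₁ : Covers (AffP (Split₂ H H))) (hc₂ : Covers (AffP (Split₂ H' H')))
    (i : H ⟶ G) [IsMonHom i] [Mono i] (i' : H' ⟶ G)
    [IsMonHom i'] [Mono i']
    (h1 : ∀ (T : Over S) (_ : T ⟶ Over.mk i₀) (a : T ⟶ H), ∃ b : T ⟶ H', b ≫ i' = a ≫ i)
    (h2 : ∀ (T : Over S) (_ : T ⟶ Over.mk i₀) (a : T ⟶ H'), ∃ b : T ⟶ H, b ≫ i = a ≫ i') :
    ∃ φ : H ≅ H', IsMonHom φ.hom ∧ ∀ {T : Over S} (h : T ⟶ H) (_ : T ⟶ Over.mk i₀), h ≫ φ.hom ≫ i' = h ≫ i := by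
  obtain ⟨φ, hφ, h1⟩ := exists_family' i₀ i i' h1
  obtain ⟨φ', hφ', h1'⟩ := exists_family' i₀ i' i h2
  obtain ⟨a, ha, ha1⟩ := exists_lift i₀ hc hφ
  obtain ⟨b, hb, hb1⟩ := exists_lift i₀ hc' hφ'
  have e1 : ∀ {T : Over S} (h : T ⟶ H) (_ : T ⟶ Over.mk i₀), (h ≫ a) ≫ i' = h ≫ i := fun h t => by
    rw [ha1 h t, h1]
  have e2 : ∀ {T : Over S} (h : T ⟶ H') (_ : T ⟶ Over.mk i₀), (h ≫ b) ≫ i = h ≫ i' := fun h t => by
    rw [hb1 h t, h1']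
  have hab : a ≫ b = 𝟙 H := hom_eq i₀ hc₁ fun T h t => by
    rw [← cancel_mono i, ← Category.assoc, e2 (h ≫ a) t, e1 h t, Category.comp_id]
  have hba : b ≫ a = 𝟙 H' := hom_eq i₀ hc₂ fun T h t => by
    rw [← cancel_mono i', ← Category.assoc, e1 (h ≫ b) t, e2 h t, Category.comp_id]
  exact ⟨⟨a, b, hab, hba⟩, ha, fun h t => by rw [← Category.assoc]; exact e1 h t⟩

/-- fpqc form, in terms of points -/
theorem exists_iso_lift_pts {G H H' : Over S} [GrpObj G] [GrpObj H] [GrpObj H']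
    (hH : TwC.Locally S TwC.Topology.fpqc (fun S' f => ∃ (M : Type) (_ : AddCommGroup M),
      Nonempty (Grp.mk (Red.bc f H) ≅ Grp.mk (Red.DS S' M))))
    (hH' : TwC.Locally S TwC.Topology.fpqc (fun S' f => ∃ (M : Type) (_ : AddCommGroup M),
      Nonempty (Grp.mk (Red.bc f H') ≅ Grp.mk (Red.DS S' M))))
    (i : H ⟶ G) [IsMonHom i] [Mono i] (i' : H' ⟶ G)
    [IsMonHom i'] [Mono i']
    (h1 : ∀ (T : Over S) (_ : T ⟶ Over.mk i₀) (a : T ⟶ H), ∃ b : T ⟶ H', b ≫ i' = a ≫ i)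
    (h2 : ∀ (T : Over S) (_ : T ⟶ Over.mk i₀) (a : T ⟶ H'), ∃ b : T ⟶ H, b ≫ i = a ≫ i') :
    ∃ φ : H ≅ H', IsMonHom φ.hom ∧ ∀ {T : Over S} (h : T ⟶ H) (_ : T ⟶ Over.mk i₀), h ≫ φ.hom ≫ i' = h ≫ i :=
  exists_iso_lift i₀ (covers_split₂ hH hH') (covers_split₂ hH' hH) (covers_split₂ hH hH)
    (covers_split₂ hH' hH') i i' h1 h2

/-- fpqc form -/
theorem exists_iso_lift_fpqc {G H H' : Over S} [GrpObj G] [GrpObj H] [GrpObj H']
    (hH : TwC.Locally S TwC.Topology.fpqc (fun S' f => ∃ (M : Type) (_ : AddCommGroup M),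
      Nonempty (Grp.mk (Red.bc f H) ≅ Grp.mk (Red.DS S' M))))
    (hH' : TwC.Locally S TwC.Topology.fpqc (fun S' f => ∃ (M : Type) (_ : AddCommGroup M),
      Nonempty (Grp.mk (Red.bc f H') ≅ Grp.mk (Red.DS S' M))))
    (i : H ⟶ G) [IsMonHom i] [Mono i] (i' : H' ⟶ G)
    [IsMonHom i'] [Mono i'] (h0 : ∃ ψ : Red.bc i₀ H ≅ Red.bc i₀ H',
      ψ.hom ≫ (Over.pullback i₀).map i' = (Over.pullback i₀).map i) :
    ∃ φ : H ≅ H', IsMonHom φ.hom ∧ ∀ {T : Over S} (h : T ⟶ H) (_ : T ⟶ Over.mk i₀), h ≫ φ.hom ≫ i' = h ≫ i := by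
  obtain ⟨ψ, hψ⟩ := h0
  exact exists_iso_lift_pts i₀ hH hH' i i' (exists_point i i' ψ.hom hψ)
    (exists_point i' i ψ.inv (by rw [← hψ, Iso.inv_hom_id_assoc]))

end K8.SubLift
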