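import Groth.Agent.SGA3x.K21.MultLoc
import Groth.Agent.S5272

/-!
# Homomorphisms from a group of multiplicative type which agree modulo a nilpotent ideal, one of them central
-/

set_option autoImplicit false
universe u
open CategoryTheory MonoidalCategory CartesianMonoidalCategory MonObj GrpObj AlgebraicGeometry Limits

namespace K8.CentralNil

open Groth.Agent.Sga3B Groth.Agent.Sga3B.BcPts K21.MultLoc

/-- morphisms which agree after base change agree on points over the new base -/
lemma agree_of_map_eq {S S' : Scheme.{u}} {x : S' ⟶ S} {H G : Over S} {u v : H ⟶ G}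
    (h : (Over.pullback x).map u = (Over.pullback x).map v) (X : Over S) (p : X ⟶ Over.mk x) (a : X ⟶ H) :
    a ≫ u = a ≫ v := by
  rw [← cancel_epi (overIso p).hom, ← Category.assoc, ← Category.assoc]
  apply (bcEquiv x _ G).injective
  rw [bcEquiv_comp x ((overIso p).hom ≫ a) u, bcEquiv_comp x ((overIso p).hom ≫ a) v, h]

/-- square zero case -/
theorem eq_of_sq {R : Type u} [CommRing R] (J : Ideal R) (hJ : J ^ 2 = ⊥)
    (H G : Over (Spec (CommRingCat.of R))) [GrpObj H] [GrpObj G] (hH : IsMult H)
    (u v : H ⟶ G) [IsMonHom u] [IsMonHom v]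
    (hc : ∀ (X : Over (Spec (CommRingCat.of R))) (g : X ⟶ G) (h : X ⟶ H), g * (h ≫ u) = (h ≫ u) * g)
    (h0 : ∀ (X : Over (Spec (CommRingCat.of R))) (_ : X ⟶ (Over.mk (Spec.map (CommRingCat.ofHom (Ideal.Quotient.mk J))) : Over (Spec (CommRingCat.of R)))) (h : X ⟶ H), h ≫ u = h ≫ v) :
    u = v := by
  obtain ⟨g, -, h2⟩ := Groth.Agent.S5272.result J hJ H G hH u v h0
  have := h2 H (𝟙 H)
  rw [hc, mul_inv_cancel_right, Category.id_comp, Category.id_comp] at this
  exact this.symm

/-- **Central homomorphisms from groups of multiplicative type are rigid for nilpotent thickenings.** -/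
theorem eq_of_pow (n : ℕ) : ∀ {R : Type u} [CommRing R] (J : Ideal R) (_ : J ^ (2 ^ n) = ⊥)
    (H G : Over (Spec (CommRingCat.of R))) [GrpObj H] [GrpObj G] (_ : IsMult H)
    (u v : H ⟶ G) [IsMonHom u] [IsMonHom v]
    (_ : ∀ (X : Over (Spec (CommRingCat.of R))) (g : X ⟶ G) (h : X ⟶ H), g * (h ≫ u) = (h ≫ u) * g)
    (_ : ∀ (X : Over (Spec (CommRingCat.of R))) (_ : X ⟶ (Over.mk (Spec.map (CommRingCat.ofHom (Ideal.Quotient.mk J))) : Over (Spec (CommRingCat.of R)))) (h : X ⟶ H), h ≫ u = h ≫ v),
    u = v := by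
  induction n with
  | zero =>
    intro R _ J hJ H G _ _ hH u v _ _ hc h0
    refine eq_of_sq J ?_ H G hH u v hc h0
    rw [pow_zero, pow_one] at hJ
    rw [hJ, pow_two, Ideal.mul_bot]
  | succ n ih =>
    intro R _ J hJ H G _ _ hH u v _ _ hc h0
    refine ih (J ^ 2) ?_ H G hH u v hc ?_
    · rw [← pow_mul, ← pow_succ']
      exact hJ
    let I : Ideal R := J ^ 2
    let x : Spec (CommRingCat.of (R ⧸ I)) ⟶ Spec (CommRingCat.of R) :=
      Spec.map (CommRingCat.ofHom (Ideal.Quotient.mk I))
    let J' : Ideal (R ⧸ I) := J.map (Ideal.Quotient.mk I)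
    have hJ' : J' ^ 2 = ⊥ := by
      simp only [J']
      rw [← Ideal.map_pow, Ideal.map_quotient_self]
    have key : (Over.pullback x).map u = (Over.pullback x).map v := by
      refine eq_of_sq J' hJ' (Red.bc x H) (Red.bc x G) (isMult_bc x hH) ((Over.pullback x).map u)
        ((Over.pullback x).map v) ?_ ?_
      · intro X g h
        obtain ⟨g', rfl⟩ := (bcEquiv x X G).surjective g
        obtain ⟨h', rfl⟩ := (bcEquiv x X H).surjective h
        rw [← bcEquiv_comp, ← bcEquiv_mul, ← bcEquiv_mul, hc]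
      · intro X p h
        obtain ⟨h', rfl⟩ := (bcEquiv x X H).surjective h
        rw [← bcEquiv_comp, ← bcEquiv_comp]
        congr 1
        let q : R ⧸ J →+* (R ⧸ I) ⧸ J' := Ideal.quotientMap J' (Ideal.Quotient.mk I) Ideal.le_comap_map
        have hq : CommRingCat.ofHom (Ideal.Quotient.mk J) ≫ CommRingCat.ofHom q =
            CommRingCat.ofHom (Ideal.Quotient.mk I) ≫ CommRingCat.ofHom (Ideal.Quotient.mk J') := by
          ext r
          exact Ideal.quotientMap_mk (J := J) (I := J') (f := Ideal.Quotient.mk I) (H := Ideal.le_comap_map)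
        refine h0 _ (Over.homMk (p.left ≫ Spec.map (CommRingCat.ofHom q)) ?_) h'
        have hp := Over.w p
        simp only [Over.mk_hom] at hp
        simp only [Over.mk_hom, Over.map_obj_hom, Category.assoc]
        rw [← Spec.map_comp, hq, Spec.map_comp, ← Category.assoc, hp]
    intro X p h
    exact agree_of_map_eq key X p h

end K8.CentralNil
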