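import Groth.Agent.Sga3B.FpqcLoc
import Groth.Agent.Sga3B.TorusBc
import Groth.Agent.SGA3x.K7.Loc

/-!
# Properties of morphisms of `S`-schemes checked on an fpqc covering (in the sense of `TwC.Locally`)
-/

set_option autoImplicit false
universe u
open CategoryTheory CategoryTheory.Limits AlgebraicGeometry

namespace K8.FpqcCover

open K7.Loc Groth.Agent.Sga3B

variable {S : Scheme.{u}} {X Y : Over S}

/-- fpqc locality on the base of a property of a morphism of `S`-schemes -/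
theorem of_cover {P : MorphismProperty Scheme.{u}} [IsZariskiLocalAtTarget P]
    [P.IsStableUnderBaseChange] [P.DescendsAlong (@Surjective ⊓ @Flat ⊓ @QuasiCompact)]
    (a : X ⟶ Y) {S' : Scheme.{u}} (f : S' ⟶ S) [Flat f]
    (hf : ∀ V : S.Opens, IsAffineOpen V →
      ∃ W : S'.Opens, IsCompact (W : Set S') ∧ f.base '' (W : Set S') = (V : Set S))
    (h : ∀ s' : S', ∃ U : S'.Opens, s' ∈ U ∧ Has P a (U.ι ≫ f)) : P a.left := by
  refine FpqcLoc.of_fpqc_cover a.left (pullback.fst Y.hom f) (TorusBc.qc_cover_bc f Y.hom hf) fun y => ?_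
  obtain ⟨U, hU, hP⟩ := h (pullback.snd Y.hom f y)
  refine ⟨pullback.snd Y.hom f ⁻¹ᵁ U, hU, ?_⟩
  let V := pullback.snd Y.hom f ⁻¹ᵁ U
  have e0 : (V.ι ≫ pullback.fst Y.hom f) ≫ Y.hom = (pullback.snd Y.hom f ∣_ U) ≫ U.ι ≫ f := by
    rw [Category.assoc, pullback.condition, morphismRestrict_ι_assoc]
  let q : (V : Scheme.{u}) ⟶ pullback Y.hom (U.ι ≫ f) :=
    pullback.lift (V.ι ≫ pullback.fst Y.hom f) (pullback.snd Y.hom f ∣_ U) e0
  have hq : q ≫ pullback.fst Y.hom (U.ι ≫ f) = V.ι ≫ pullback.fst Y.hom f := pullback.lift_fst _ _ _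
  have h1 : IsPullback (pullback.fst a.left (V.ι ≫ pullback.fst Y.hom f))
      (pullback.snd a.left (V.ι ≫ pullback.fst Y.hom f)) a.left (q ≫ pullback.fst Y.hom (U.ι ≫ f)) := by
    rw [hq]
    exact IsPullback.of_hasPullback _ _
  exact P.of_isPullback (IsPullback.of_right' h1 (isPullback_map (U.ι ≫ f) a)) hP

/-- `Has` in `Spec` form -/
theorem has_of_spec {P : MorphismProperty Scheme.{u}} [IsZariskiLocalAtTarget P]
    [P.IsStableUnderBaseChange] (a : X ⟶ Y) {T : Scheme.{u}} (f : T ⟶ S)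
    (h : ∀ (V : T.Opens) (hV : IsAffineOpen V), Has P a (hV.fromSpec ≫ f)) : Has P a f := by
  apply has_of_zariski
  intro t
  obtain ⟨V, hV, ht, -⟩ := exists_isAffineOpen_mem_and_subset (x := t) (U := ⊤) trivial
  refine ⟨V, ht, (h V hV).of_fac hV.isoSpec.hom ?_⟩
  rw [← Category.assoc, hV.isoSpec_hom_fromSpec]

end K8.FpqcCover
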