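import Groth.Agent.Sga3C.QFlatOpen
import Groth.Agent.FlatA.LocalCriterion
import Mathlib.AlgebraicGeometry.Morphisms.FlatMono
import Mathlib.AlgebraicGeometry.Stalk
import Mathlib.RingTheory.RingHom.Flat
import Mathlib.Algebra.Category.Ring.Epi

/-!
# Monomorphisms which contain the infinitesimal neighbourhoods of a point

`exists_open_of_fat`: `X` locally noetherian, `j : W ⟶ X` a monomorphism locally of finite type, `x : X`. If all the
infinitesimal neighbourhoods `Spec (𝒪_{X,x} / 𝔪 ^ n) ⟶ X` factor through `j` then an open neighbourhood of `x`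
factors through `j`.
-/

set_option autoImplicit false
set_option backward.isDefEq.respectTransparency false
universe u
open CategoryTheory AlgebraicGeometry Limits TensorProduct

namespace K8.FatNhd

section ring

variable {A C : Type u} [CommRing A] [CommRing C] [Algebra A C]

/-- An epimorphic algebra with compatible retractions modulo the powers of the maximal ideal is flat. -/
theorem flat_of_retractions [IsNoetherianRing A] [IsNoetherianRing C] [IsLocalRing A] [IsLocalRing C]
    [IsLocalHom (algebraMap A C)]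
    (hepi : ∀ (D : Type u) [CommRing D] [Algebra A D] (f g : C →ₐ[A] D), f = g)
    (h : ∀ n : ℕ, 0 < n → Nonempty (C →ₐ[A] (A ⧸ IsLocalRing.maximalIdeal A ^ n))) : Module.Flat A C := by
  have hloc : (IsLocalRing.maximalIdeal A).map (algebraMap A C) ≤ IsLocalRing.maximalIdeal C :=
    ((IsLocalRing.local_hom_TFAE (algebraMap A C)).out 0 2).1 ‹_›
  refine Groth.Agent.FlatA.LocalCriterion.flat_of_forall_flat_quotient_pow (B := C) (IsLocalRing.maximalIdeal A)
    (hloc.trans (IsLocalRing.maximalIdeal_le_jacobson _)) ?_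
  intro n hn
  obtain ⟨g⟩ := h n hn
  let Q := A ⧸ IsLocalRing.maximalIdeal A ^ n
  -- the two maps `C → Q ⊗ C`
  let f₁ : C →ₐ[A] Q ⊗[A] C := Algebra.TensorProduct.includeRight
  let i₁ : Q →ₐ[A] Q ⊗[A] C := (Algebra.TensorProduct.includeLeft : Q →ₐ[A] Q ⊗[A] C)
  have hfg : f₁ = i₁.comp g := hepi _ _ _
  have hsurj : Function.Surjective i₁ := by
    intro z
    induction z with
    | zero => exact ⟨0, map_zero _⟩
    | tmul q c =>
      refine ⟨q * g c, ?_⟩
      have h1 : (1 : Q) ⊗ₜ[A] c = i₁ (g c) := DFunLike.congr_fun hfg c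
      rw [map_mul, ← h1]
      change (q ⊗ₜ[A] (1 : C)) * ((1 : Q) ⊗ₜ[A] c) = _
      rw [Algebra.TensorProduct.tmul_mul_tmul, mul_one, one_mul]
    | add x y hx hy =>
      obtain ⟨a, rfl⟩ := hx
      obtain ⟨b, rfl⟩ := hy
      exact ⟨a + b, map_add _ _ _⟩
  have hinj : Function.Injective i₁ := by
    have h2 : ∀ q : Q, (Algebra.TensorProduct.lift (AlgHom.id A Q) g (fun _ _ => Commute.all _ _)) (i₁ q) = q := by
      intro q
      change Algebra.TensorProduct.lift (AlgHom.id A Q) g _ (q ⊗ₜ[A] (1 : C)) = q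
      rw [Algebra.TensorProduct.lift_tmul, map_one, mul_one]
      rfl
    exact Function.LeftInverse.injective h2
  let e : Q ≃ₗ[Q] Q ⊗[A] C := LinearEquiv.ofBijective (Algebra.linearMap Q (Q ⊗[A] C)) ⟨hinj, hsurj⟩
  exact Module.Flat.of_linearEquiv e.symm

end ring

/-- The ring of the `n`-th infinitesimal neighbourhood of a point. -/
noncomputable abbrev fatRing (X : Scheme.{u}) (x : X) (n : ℕ) : CommRingCat.{u} :=
  CommRingCat.of (X.presheaf.stalk x ⧸ (IsLocalRing.maximalIdeal (X.presheaf.stalk x)) ^ n)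

/-- The projection to the ring of the `n`-th infinitesimal neighbourhood of a point. -/
noncomputable abbrev fatMk (X : Scheme.{u}) (x : X) (n : ℕ) : X.presheaf.stalk x ⟶ fatRing X x n :=
  CommRingCat.ofHom (Ideal.Quotient.mk ((IsLocalRing.maximalIdeal (X.presheaf.stalk x)) ^ n))

/-- The `n`-th infinitesimal neighbourhood of a point. -/
noncomputable abbrev fat (X : Scheme.{u}) (x : X) (n : ℕ) : Spec (fatRing X x n) ⟶ X :=
  Spec.map (fatMk X x n) ≫ X.fromSpecStalk x

theorem isLocalRing_fatRing (X : Scheme.{u}) (x : X) (n : ℕ) (hn : 0 < n) : IsLocalRing (fatRing X x n) := by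
  have hnt : Nontrivial (X.presheaf.stalk x ⧸ (IsLocalRing.maximalIdeal (X.presheaf.stalk x)) ^ n) := by
    refine Ideal.Quotient.nontrivial_iff.mpr (fun h => ?_)
    have h1 := Ideal.pow_le_self (I := IsLocalRing.maximalIdeal (X.presheaf.stalk x)) hn.ne'
    rw [h] at h1
    exact (IsLocalRing.maximalIdeal.isMaximal (X.presheaf.stalk x)).ne_top (top_le_iff.mp h1)
  exact IsLocalRing.of_surjective' (Ideal.Quotient.mk ((IsLocalRing.maximalIdeal (X.presheaf.stalk x)) ^ n))
    Ideal.Quotient.mk_surjective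

theorem fat_closedPoint (X : Scheme.{u}) (x : X) (n : ℕ) [IsLocalRing (fatRing X x n)] :
    (fat X x n) (IsLocalRing.closedPoint (fatRing X x n)) = x := by
  have h3 : IsLocalHom (fatMk X x n).hom :=
    IsLocalHom.of_surjective _ Ideal.Quotient.mk_surjective
  rw [Scheme.Hom.comp_apply, Spec_closedPoint]
  exact Scheme.fromSpecStalk_closedPoint

variable {X W : Scheme.{u}} (j : W ⟶ X)

/-- A morphism from the spectrum of a local ring, in terms of stalks. -/
theorem exists_stalk_hom {R : CommRingCat.{u}} [IsLocalRing R] (z : Spec R ⟶ W) (y : W)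
    (hy : z (IsLocalRing.closedPoint R) = y) :
    ∃ g : W.presheaf.stalk y ⟶ R, Spec.map g ≫ W.fromSpecStalk y = z := by
  subst hy
  exact ⟨Scheme.stalkClosedPointTo z, Scheme.Spec_stalkClosedPointTo_fromSpecStalk z⟩

theorem mono_spec_stalkMap [Mono j] (y : W) : Mono (Spec.map (j.stalkMap y)) := by
  have h1 : Mono (W.fromSpecStalk y ≫ j) := inferInstance
  rw [← Scheme.SpecMap_stalkMap_fromSpecStalk] at h1
  exact mono_of_mono _ (X.fromSpecStalk (j y))

theorem flat_stalkMap_of_fat [IsLocallyNoetherian X] [Mono j] [LocallyOfFiniteType j] (y : W)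
    (h : ∀ n : ℕ, 0 < n → ∃ z : Spec (fatRing X (j y) n) ⟶ W, z ≫ j = fat X (j y) n) :
    (j.stalkMap y).hom.Flat := by
  have hW : IsLocallyNoetherian W := LocallyOfFiniteType.isLocallyNoetherian j
  have hA : IsNoetherianRing (X.presheaf.stalk (j y)) := inferInstance
  have hC : IsNoetherianRing (W.presheaf.stalk y) := inferInstance
  let _ : Algebra (X.presheaf.stalk (j y)) (W.presheaf.stalk y) := (j.stalkMap y).hom.toAlgebra
  have hlh : IsLocalHom (algebraMap (X.presheaf.stalk (j y)) (W.presheaf.stalk y)) :=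
    inferInstanceAs (IsLocalHom (j.stalkMap y).hom)
  have hmono := mono_spec_stalkMap j y
  change Module.Flat (X.presheaf.stalk (j y)) (W.presheaf.stalk y)
  refine flat_of_retractions (A := X.presheaf.stalk (j y)) (C := W.presheaf.stalk y) ?_ ?_
  · intro D _ _ f g
    let f' : W.presheaf.stalk y ⟶ CommRingCat.of D := CommRingCat.ofHom f.toRingHom
    let g' : W.presheaf.stalk y ⟶ CommRingCat.of D := CommRingCat.ofHom g.toRingHom
    have h0 : j.stalkMap y ≫ f' = j.stalkMap y ≫ g' := by
      ext a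
      exact (f.commutes a).trans (g.commutes a).symm
    have h1 : f' = g' := by
      apply Spec.map_injective
      rw [← cancel_mono (Spec.map (j.stalkMap y)), ← Spec.map_comp, ← Spec.map_comp, h0]
    ext c
    exact congr($(h1).hom c)
  · intro n hn
    obtain ⟨z, hz⟩ := h n hn
    have hlr := isLocalRing_fatRing X (j y) n hn
    have hcl : z (IsLocalRing.closedPoint (fatRing X (j y) n)) = y := by
      apply j.injective
      rw [← Scheme.Hom.comp_apply, hz]
      exact fat_closedPoint X (j y) n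
    obtain ⟨g, hg⟩ := exists_stalk_hom z y hcl
    have h5 : j.stalkMap y ≫ g = fatMk X (j y) n := by
      apply Spec.map_injective
      rw [← cancel_mono (X.fromSpecStalk (j y))]
      refine Eq.trans ?_ hz
      rw [← hg, Spec.map_comp, Category.assoc, Category.assoc, Scheme.SpecMap_stalkMap_fromSpecStalk]
    exact ⟨{ toRingHom := g.hom, commutes' := fun a => congr($(h5).hom a) }⟩

/-- If all the infinitesimal neighbourhoods of `x` factor through the monomorphism `j` then so does an open
neighbourhood of `x`. -/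
theorem exists_open_of_fat [IsLocallyNoetherian X] [Mono j] [LocallyOfFiniteType j] (x : X)
    (h : ∀ n : ℕ, 0 < n → ∃ z : Spec (fatRing X x n) ⟶ W, z ≫ j = fat X x n) :
    ∃ U : X.Opens, x ∈ U ∧ ∃ l : (U : Scheme.{u}) ⟶ W, l ≫ j = U.ι := by
  have hW : IsLocallyNoetherian W := LocallyOfFiniteType.isLocallyNoetherian j
  have hx : ∃ y : W, j y = x := by
    obtain ⟨z, hz⟩ := h 1 one_pos
    have hlr := isLocalRing_fatRing X x 1 one_pos
    refine ⟨z (IsLocalRing.closedPoint (fatRing X x 1)), ?_⟩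
    rw [← Scheme.Hom.comp_apply, hz]
    exact fat_closedPoint X x 1
  obtain ⟨y, rfl⟩ := hx
  have h1 := flat_stalkMap_of_fat j y h
  let O : W.Opens := ⟨{w : W | (j.stalkMap w).hom.Flat}, Groth.Agent.Sga3C.QFlatOpen.isOpen_flatLocus j⟩
  have hfl : Flat (O.ι ≫ j) := by
    refine Flat.of_stalkMap _ fun w => ?_
    rw [Scheme.Hom.stalkMap_comp]
    have h2 : (j.stalkMap (O.ι w)).hom.Flat := w.2
    exact RingHom.Flat.comp h2 (RingHom.Flat.of_bijective (ConcreteCategory.bijective_of_isIso (O.ι.stalkMap w)))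
  have hlft : LocallyOfFiniteType (O.ι ≫ j) := inferInstance
  have hlfp : LocallyOfFinitePresentation (O.ι ≫ j) := LocallyOfFinitePresentation.iff_locallyOfFiniteType.2 hlft
  have hoi : IsOpenImmersion (O.ι ≫ j) := IsOpenImmersion.of_flat_of_mono _
  refine ⟨(O.ι ≫ j).opensRange, ⟨⟨y, h1⟩, rfl⟩, IsOpenImmersion.lift (O.ι ≫ j) (O.ι ≫ j).opensRange.ι ?_ ≫ O.ι, ?_⟩
  · rw [Scheme.Opens.range_ι]
    rfl
  · rw [Category.assoc, IsOpenImmersion.lift_fac]

end K8.FatNhd
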