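import Groth.Agent.SGA3x.K8.FatNhd
import Groth.Agent.Sga3.H778.NeutralOpen
import Groth.Agent.Sga3C.GrpBasic
import Mathlib.AlgebraicGeometry.Morphisms.FlatDescent

/-!
# Monomorphic homomorphisms which contain a neighbourhood of the unit section

`isIso_of_open`: `X` flat and locally of finite presentation over `S` with connected fibres, `i : Y ⟶ X` a
homomorphism and a monomorphism such that an open neighbourhood of the unit section of `X` factors through `i`. Then
`i` is an isomorphism.
`isIso_of_fat`: the same if the base is locally noetherian, `Y` is locally of finite type and all infinitesimal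
neighbourhoods of the points of the unit section factor through `i`.
-/

set_option autoImplicit false
set_option backward.isDefEq.respectTransparency false
universe u
open CategoryTheory MonoidalCategory CartesianMonoidalCategory MonObj GrpObj AlgebraicGeometry Limits

namespace K8.MonoGrp

open Groth.Agent.Sga3.H778.NeutralOpen Groth.Agent.Sga3.H778.NeutralPts Groth.Agent.Sga3C.HomogIrr K8.FatNhd

variable {S : Scheme.{u}} {X Y : Over S} [GrpObj X] [GrpObj Y]

/-- If the fibres are connected, the neutral set is everything. -/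
theorem neutralSet_eq_univ (h : ∀ s : S, _root_.IsConnected (X.hom ⁻¹' {s})) : SGA3x.neutralSet X = Set.univ := by
  rw [neutralSet_eq]
  ext x
  simp only [Set.mem_univ, iff_true]
  change x ∈ connectedComponentIn _ _
  rw [(h (X.hom x)).isPreconnected.connectedComponentIn]
  · rfl
  · exact hom_unitSec X _

/-- The product of two morphisms to a group. -/
lemma tensor_mul {A B : Over S} (a : A ⟶ X) (b : B ⟶ X) :
    (a ⊗ₘ b) ≫ μ[X] = (fst A B ≫ a) * (snd A B ≫ b) := by
  rw [Hom.mul_def]
  congr 1

lemma lift_tensor_mul {A B Z : Over S} (a : A ⟶ X) (b : B ⟶ X) (x : Z ⟶ A) (y : Z ⟶ B) :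
    lift x y ≫ (a ⊗ₘ b) ≫ μ[X] = (x ≫ a) * (y ≫ b) := by
  rw [tensor_mul, MonObj.comp_mul, lift_fst_assoc, lift_snd_assoc]

/-- The multiplication of a group scheme inherits the properties of the structure morphism. -/
theorem left_mul (W : MorphismProperty Scheme.{u}) [W.IsStableUnderBaseChange] (h : W X.hom) : W (μ[X]).left := by
  have h1 : (Groth.Agent.Sga3C.GrpBasic.mulLeftShear (𝟙 X)).hom ≫ snd X X = μ[X] := by
    rw [Groth.Agent.Sga3C.GrpBasic.mulLeftShear_hom_snd, Category.comp_id, ← MonObj.mul_eq_mul]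
  rw [← h1, Over.comp_left]
  have h2 : IsIso (Groth.Agent.Sga3C.GrpBasic.mulLeftShear (𝟙 X)).hom.left :=
    inferInstanceAs (IsIso ((Over.forget S).map (Groth.Agent.Sga3C.GrpBasic.mulLeftShear (𝟙 X)).hom))
  rw [W.cancel_left_of_respectsIso]
  rw [Over.snd_left]
  exact W.pullback_snd _ _ h

theorem mono_left {A B : Over S} (i : A ⟶ B) [Mono i] : Mono i.left :=
  inferInstanceAs (Mono ((Over.forget S).map i))

theorem isIso_of_open [Flat X.hom] [LocallyOfFinitePresentation X.hom]
    (hconn : SGA3x.neutralSet X = Set.univ) (i : Y ⟶ X) [IsMonHom i] [Mono i] (U : X.left.Opens)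
    (hU : ∀ s : S, unitSec X s ∈ U) (l : (U : Scheme.{u}) ⟶ Y.left) (hl : l ≫ i.left = U.ι) : IsIso i.left := by
  have hmono := mono_left i
  let u : opn X U ⟶ X := opnι X U
  let l' : opn X U ⟶ Y := Over.homMk l (by
    rw [← Over.w i, ← Category.assoc, hl]
    rfl)
  have hl' : l' ≫ i = u := by
    ext1
    exact hl
  let m : opn X U ⊗ opn X U ⟶ X := (u ⊗ₘ u) ≫ μ[X]
  have hm : m = ((fst _ _ ≫ l') * (snd _ _ ≫ l')) ≫ i := by
    change (u ⊗ₘ u) ≫ μ[X] = _
    rw [tensor_mul, MonObj.mul_comp, Category.assoc, Category.assoc, hl']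
  have hoi : IsOpenImmersion (u ⊗ₘ u).left := by
    have h1 : IsOpenImmersion u.left := inferInstanceAs (IsOpenImmersion (opnι X U).left)
    have h2 : (u ⊗ₘ u).left = pullback.map _ _ _ _ u.left u.left (𝟙 S) (by simp) (by simp) := by
      rw [Over.tensorHom_left]
    rw [h2]
    infer_instance
  have hflat : Flat m.left := by
    have h3 : Flat (μ[X]).left := left_mul @Flat ‹_›
    rw [Over.comp_left]
    infer_instance
  have hlfp : LocallyOfFinitePresentation m.left := by
    have h3 : LocallyOfFinitePresentation (μ[X]).left := left_mul @LocallyOfFinitePresentation ‹_›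
    rw [Over.comp_left]
    infer_instance
  have hsurj : Surjective m.left := by
    constructor
    intro x
    obtain ⟨w, hw1, hw2, hw3⟩ := exists_mul_eq x (hconn ▸ Set.mem_univ x) U U.isOpen (hU _)
    obtain ⟨t⟩ : Nonempty (ptObj (X ⊗ X) w).left := inferInstance
    obtain ⟨a, ha⟩ := exists_lift U (ptHom (X ⊗ X) w ≫ fst X X) (fun t => by
      rw [comp_left_apply, ptHom_apply]
      exact hw1)
    obtain ⟨b, hb⟩ := exists_lift U (ptHom (X ⊗ X) w ≫ snd X X) (fun t => by
      rw [comp_left_apply, ptHom_apply]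
      exact hw2)
    refine ⟨(lift a b).left t, ?_⟩
    rw [← comp_left_apply, lift_tensor_mul, ha, hb, ← MonObj.comp_mul,
      comp_left_apply, ptHom_apply, hw3]
  have hpb : IsIso (pullback.snd i.left m.left) := by
    let s : (opn X U ⊗ opn X U : Over S).left ⟶ pullback i.left m.left :=
      pullback.lift ((fst _ _ ≫ l') * (snd _ _ ≫ l')).left (𝟙 _) (by
        rw [← Over.comp_left, ← hm, Category.id_comp])
    have hs : s ≫ pullback.snd i.left m.left = 𝟙 _ := pullback.lift_snd _ _ _
    refine ⟨s, ?_, hs⟩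
    rw [← cancel_mono (pullback.snd i.left m.left), Category.assoc, hs, Category.comp_id, Category.id_comp]
  exact MorphismProperty.of_pullback_snd_of_descendsAlong (P := MorphismProperty.isomorphisms Scheme.{u})
    (Q := @Surjective ⊓ @Flat ⊓ @LocallyOfFinitePresentation) (f := i.left) (g := m.left) ⟨⟨hsurj, hflat⟩, hlfp⟩ hpb

/-- A morphism which locally factors through a monomorphism factors through it. -/
theorem factor_of_cover {Z X Y : Scheme.{u}} (j : Y ⟶ X) [Mono j] (𝒱 : Scheme.OpenCover.{u} Z) (h : Z ⟶ X)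
    (a : ∀ i, 𝒱.X i ⟶ Y) (ha : ∀ i, a i ≫ j = 𝒱.f i ≫ h) : ∃ a : Z ⟶ Y, a ≫ j = h := by
  refine ⟨Scheme.Cover.glueMorphisms 𝒱 a ?_, ?_⟩
  · intro x y
    rw [← cancel_mono j, Category.assoc, Category.assoc, ha, ha, pullback.condition_assoc]
  · apply Scheme.Cover.hom_ext 𝒱
    intro i
    rw [Scheme.Cover.ι_glueMorphisms_assoc, ha]

theorem isIso_of_fat [IsLocallyNoetherian S] [Flat X.hom] [LocallyOfFinitePresentation X.hom]
    (hconn : SGA3x.neutralSet X = Set.univ) [LocallyOfFiniteType Y.hom] (i : Y ⟶ X) [IsMonHom i]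
    [Mono i] (h : ∀ (s : S) (n : ℕ), 0 < n → ∃ z : Spec (fatRing X.left (unitSec X s) n) ⟶ Y.left,
      z ≫ i.left = fat X.left (unitSec X s) n) : IsIso i.left := by
  have hmono := mono_left i
  have hX : IsLocallyNoetherian X.left := LocallyOfFiniteType.isLocallyNoetherian X.hom
  have hft : LocallyOfFiniteType i.left := by
    have h1 : LocallyOfFiniteType (i.left ≫ X.hom) := by rw [Over.w]; infer_instance
    exact locallyOfFiniteType_of_comp i.left X.hom
  choose U hU l hl using fun s => exists_open_of_fat i.left (unitSec X s) (h s)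
  obtain ⟨a, ha⟩ := factor_of_cover i.left (Scheme.Opens.iSupOpenCover U) (⨆ s, U s).ι l (fun s => by
    rw [hl]
    exact (X.left.homOfLE_ι (le_iSup U s)).symm)
  exact isIso_of_open hconn i (⨆ s, U s) (fun s => TopologicalSpace.Opens.mem_iSup.2 ⟨s, hU s⟩) a ha

end K8.MonoGrp
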