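import Groth.Agent.SGA3x.K8.MonoGrp
import Groth.Agent.Sga3.H806.ApproxConn
import Groth.Agent.Sga3.H813.FreePow
import Groth.Agent.Sga3.H817.WeilProj
import Mathlib.AlgebraicGeometry.ZariskisMainTheorem

/-!
# The locus where a monomorphic homomorphism of group schemes is an isomorphism, noetherian base

`X` smooth over `Spec A` with connected fibres, `A` noetherian, `i : Y ⟶ X` a monomorphic homomorphism, `Y` locally of
finite type. Near a point over which there is a standard smooth chart of the unit section, the functor of the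
`T ⟶ Spec A` over which `i` is an isomorphism is represented by an ideal (`exists_ideal`).
-/

set_option autoImplicit false
set_option backward.isDefEq.respectTransparency false
universe u
open CategoryTheory MonoidalCategory CartesianMonoidalCategory MonObj GrpObj AlgebraicGeometry Limits TensorProduct

namespace K8.WeilNoeth

open Groth.Agent.Sga3.H778.NeutralOpen Groth.Agent.Sga3.H778.NeutralPts Groth.Agent.Sga3C.HomogIrr K8.FatNhd
  K8.MonoGrp

section ideal

/-- A closed subscheme of an affine scheme is given by an ideal, in terms of points with values in rings. -/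
theorem exists_ideal_of_closed {E : CommRingCat.{u}} {Z : Scheme.{u}} (f : Z ⟶ Spec E) [IsClosedImmersion f] :
    ∃ K : Ideal E, ∀ (D : CommRingCat.{u}) (ψ : E ⟶ D), (∃ z : Spec D ⟶ Z, z ≫ f = Spec.map ψ) ↔
      ∀ b ∈ K, ψ.hom b = 0 := by
  obtain ⟨K, e, he⟩ := (IsClosedImmersion.Spec_iff (f := f)).1 inferInstance
  refine ⟨K, fun D ψ => ?_⟩
  constructor
  · rintro ⟨z, hz⟩ b hb
    let q : Spec D ⟶ Spec (CommRingCat.of (E ⧸ K)) := z ≫ e.hom
    obtain ⟨χ, hχ⟩ := Spec.map_surjective q
    have h1 : CommRingCat.ofHom (Ideal.Quotient.mk K) ≫ χ = ψ := by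
      apply Spec.map_injective
      rw [Spec.map_comp, hχ, ← hz, he, Category.assoc]
    rw [← h1]
    have h2 : Ideal.Quotient.mk K b = 0 := Ideal.Quotient.eq_zero_iff_mem.2 hb
    change χ.hom (Ideal.Quotient.mk K b) = 0
    rw [h2, map_zero]
  · intro h
    let χ : CommRingCat.of (E ⧸ K) ⟶ D := CommRingCat.ofHom (Ideal.Quotient.lift K ψ.hom h)
    have h1 : CommRingCat.ofHom (Ideal.Quotient.mk K) ≫ χ = ψ := by
      ext b
      exact Ideal.Quotient.lift_mk K ψ.hom h
    refine ⟨Spec.map χ ≫ e.inv, ?_⟩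
    rw [he, Category.assoc, e.inv_hom_id_assoc, ← h1, Spec.map_comp]

end ideal

variable {A : Type u} [CommRing A] {X Y : Over (Spec (CommRingCat.of A))} [GrpObj X] [GrpObj Y]
  {B : Type u} [CommRing B] [Algebra A B] (ε : B →ₐ[A] A) (j : Spec (CommRingCat.of B) ⟶ X.left)

/-- The infinitesimal neighbourhoods of the unit section. -/
noncomputable abbrev c (n : ℕ) : Spec (CommRingCat.of (B ⧸ (RingHom.ker ε) ^ n)) ⟶ X.left :=
  Spec.map (CommRingCat.ofHom (Ideal.Quotient.mk ((RingHom.ker ε) ^ n))) ≫ j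

theorem isClosedImmersion_snd (hε : Spec.map (CommRingCat.ofHom ε.toRingHom) ≫ j = unitSec X)
    (i : Y ⟶ X) [IsMonHom i] [Mono i] [LocallyOfFiniteType i.left] (n : ℕ) (hn : 0 < n) :
    IsClosedImmersion (pullback.snd i.left (c ε j n)) := by
  have hmono := mono_left i
  let p := pullback.snd i.left (c ε j n)
  have hεn : ∀ b ∈ (RingHom.ker ε) ^ n, ε b = 0 := fun b hb => Ideal.pow_le_self hn.ne' hb
  let εn : B ⧸ (RingHom.ker ε) ^ n →+* A := Ideal.Quotient.lift _ ε.toRingHom hεn
  have hεn' : CommRingCat.ofHom (Ideal.Quotient.mk ((RingHom.ker ε) ^ n)) ≫ CommRingCat.ofHom εn =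
      CommRingCat.ofHom ε.toRingHom := by
    ext b
    exact Ideal.Quotient.lift_mk ((RingHom.ker ε) ^ n) ε.toRingHom hεn
  have hu : unitSec Y ≫ i.left = unitSec X := by
    change (η[Y]).left ≫ i.left = (η[X]).left
    rw [← Over.comp_left, IsMonHom.one_hom]
  let s : Spec (CommRingCat.of A) ⟶ pullback i.left (c ε j n) :=
    pullback.lift (unitSec Y) (Spec.map (CommRingCat.ofHom εn)) (by
      rw [hu, ← hε, ← Category.assoc, ← Spec.map_comp, hεn'])
  have hs : s ≫ p = Spec.map (CommRingCat.ofHom εn) := pullback.lift_snd _ _ _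
  have hsurjε : Function.Surjective εn := by
    intro a
    refine ⟨Ideal.Quotient.mk _ (algebraMap A B a), ?_⟩
    change ε (algebraMap A B a) = a
    exact ε.commutes a
  have hcl : IsClosedImmersion (Spec.map (CommRingCat.ofHom εn)) :=
    IsClosedImmersion.spec_of_surjective (CommRingCat.ofHom εn) hsurjε
  have hsurj : Surjective (Spec.map (CommRingCat.ofHom εn)) := by
    constructor
    have h1 : RingHom.ker εn ≤ nilradical (B ⧸ (RingHom.ker ε) ^ n) := by
      intro x hx
      obtain ⟨b, rfl⟩ := Ideal.Quotient.mk_surjective x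
      have hb : b ∈ RingHom.ker ε := hx
      refine ⟨n, ?_⟩
      rw [← map_pow]
      exact Ideal.Quotient.eq_zero_iff_mem.2 (Ideal.pow_mem_pow hb n)
    have h2 := range_comap_of_surjective _ εn hsurjε
    intro x
    have h3 : x ∈ Set.range (PrimeSpectrum.comap εn) := by
      rw [h2]
      exact h1.trans (nilradical_le_prime x.asIdeal)
    exact h3
  have hpm : Mono p := inferInstance
  have hss : Surjective s := by
    constructor
    intro z
    obtain ⟨t, ht⟩ := hsurj.surj (p z)
    refine ⟨t, p.injective ?_⟩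
    rw [← Scheme.Hom.comp_apply, hs, ht]
  have huc : UniversallyClosed (s ≫ p) := by
    rw [hs]
    infer_instance
  have huc' : UniversallyClosed p := UniversallyClosed.of_comp_surjective s p
  have hlft : LocallyOfFiniteType p := inferInstance
  have hsep : IsSeparated p := inferInstance
  have hp : IsProper p := ⟨⟩
  exact (IsClosedImmersion.iff_isProper_and_mono p).2 ⟨hp, hpm⟩

/-- The ideal of the part of an infinitesimal neighbourhood of the unit section contained in `Y`. -/
theorem exists_K (hε : Spec.map (CommRingCat.ofHom ε.toRingHom) ≫ j = unitSec X)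
    (i : Y ⟶ X) [IsMonHom i] [Mono i] [LocallyOfFiniteType i.left] (n : ℕ) (hn : 0 < n) :
    ∃ K : Ideal (B ⧸ (RingHom.ker ε) ^ n), ∀ (D : CommRingCat.{u})
      (ψ : CommRingCat.of (B ⧸ (RingHom.ker ε) ^ n) ⟶ D),
      (∃ z : Spec D ⟶ Y.left, z ≫ i.left = Spec.map ψ ≫ c ε j n) ↔ ∀ b ∈ K, ψ.hom b = 0 := by
  have hcl := isClosedImmersion_snd ε j hε i n hn
  obtain ⟨K, hK⟩ := exists_ideal_of_closed (pullback.snd i.left (c ε j n))
  refine ⟨K, fun D ψ => ?_⟩
  rw [← hK]
  constructor
  · rintro ⟨z, hz⟩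
    exact ⟨pullback.lift z (Spec.map ψ) hz, pullback.lift_snd _ _ _⟩
  · rintro ⟨z, hz⟩
    exact ⟨z ≫ pullback.fst _ _, by rw [Category.assoc, pullback.condition, ← Category.assoc, hz]⟩

/-- The ideal of the base over which an infinitesimal neighbourhood of the unit section is contained in `Y`. -/
theorem exists_T (hε : Spec.map (CommRingCat.ofHom ε.toRingHom) ≫ j = unitSec X)
    (i : Y ⟶ X) [IsMonHom i] [Mono i] [LocallyOfFiniteType i.left] (n : ℕ) (hn : 0 < n)
    [Module.Projective A (B ⧸ (RingHom.ker ε) ^ n)] :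
    ∃ T : Ideal A, ∀ (C : Type u) [CommRing C] [Algebra A C],
      T.map (algebraMap A C) = ⊥ ↔
      ∃ z : Spec (CommRingCat.of (C ⊗[A] (B ⧸ (RingHom.ker ε) ^ n))) ⟶ Y.left,
        z ≫ i.left = Spec.map (CommRingCat.ofHom (Algebra.TensorProduct.includeRight :
          (B ⧸ (RingHom.ker ε) ^ n) →ₐ[A] C ⊗[A] (B ⧸ (RingHom.ker ε) ^ n)).toRingHom) ≫ c ε j n := by
  obtain ⟨K, hK⟩ := exists_K ε j hε i n hn
  choose T hTfg hT using (Groth.Agent.Sga3.H817.WeilProj.exists_content (A := A) (B := B ⧸ (RingHom.ker ε) ^ n))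
  refine ⟨⨆ b : K, T b.1, fun C _ _ => ?_⟩
  rw [hK, Ideal.map_iSup, iSup_eq_bot]
  constructor
  · intro h b hb
    exact (hT b C).1 (h ⟨b, hb⟩)
  · intro h b
    exact (hT b.1 C).2 (h b.1 b.2)

section cond

variable (hj : j ≫ X.hom = Spec.map (CommRingCat.ofHom (algebraMap A B))) (i : Y ⟶ X) (C : Type u) [CommRing C]
  [Algebra A C]

omit [GrpObj X] [GrpObj Y] in
include hj in
theorem exists_of_cond (h : ∃ a : pullback X.hom (Spec.map (CommRingCat.ofHom (algebraMap A C))) ⟶ Y.left,
      a ≫ i.left = pullback.fst _ _) (n : ℕ) :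
    ∃ z : Spec (CommRingCat.of (C ⊗[A] (B ⧸ (RingHom.ker ε) ^ n))) ⟶ Y.left,
      z ≫ i.left = Spec.map (CommRingCat.ofHom (Algebra.TensorProduct.includeRight :
        (B ⧸ (RingHom.ker ε) ^ n) →ₐ[A] C ⊗[A] (B ⧸ (RingHom.ker ε) ^ n)).toRingHom) ≫ c ε j n := by
  obtain ⟨a, ha⟩ := h
  let E := B ⧸ (RingHom.ker ε) ^ n
  have h1 : CommRingCat.ofHom (algebraMap A B) ≫ CommRingCat.ofHom (Ideal.Quotient.mk ((RingHom.ker ε) ^ n)) ≫
      CommRingCat.ofHom (Algebra.TensorProduct.includeRight : E →ₐ[A] C ⊗[A] E).toRingHom =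
      CommRingCat.ofHom (algebraMap A C) ≫
        CommRingCat.ofHom (Algebra.TensorProduct.includeLeftRingHom : C →+* C ⊗[A] E) := by
    ext x
    change (Algebra.TensorProduct.includeRight : E →ₐ[A] C ⊗[A] E) (algebraMap A E x) = (algebraMap A C x) ⊗ₜ[A] 1
    rw [AlgHom.commutes]
    rfl
  refine ⟨pullback.lift (Spec.map (CommRingCat.ofHom (Algebra.TensorProduct.includeRight :
        E →ₐ[A] C ⊗[A] E).toRingHom) ≫ c ε j n)
    (Spec.map (CommRingCat.ofHom (Algebra.TensorProduct.includeLeftRingHom : C →+* C ⊗[A] E))) ?_ ≫ a, ?_⟩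
  · rw [Category.assoc, Category.assoc, hj, ← Spec.map_comp, ← Spec.map_comp, ← Spec.map_comp, ← h1]
    rfl
  · rw [Category.assoc, ha, pullback.lift_fst]

end cond

theorem pow_maximalIdeal_fatRing (Z : Scheme.{u}) (x : Z) (n : ℕ) [IsLocalRing (fatRing Z x n)] :
    (IsLocalRing.maximalIdeal (fatRing Z x n)) ^ n = ⊥ := by
  let O := Z.presheaf.stalk x
  let π : O →+* O ⧸ (IsLocalRing.maximalIdeal O) ^ n := Ideal.Quotient.mk _
  have h1 : IsLocalRing.maximalIdeal (fatRing Z x n) ≤ (IsLocalRing.maximalIdeal O).map π := by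
    intro y hy
    obtain ⟨a, rfl⟩ := Ideal.Quotient.mk_surjective y
    refine Ideal.mem_map_of_mem π ?_
    rw [IsLocalRing.mem_maximalIdeal] at hy ⊢
    exact fun ha => hy (ha.map π)
  have h2 : (IsLocalRing.maximalIdeal (fatRing Z x n)) ^ n ≤ ((IsLocalRing.maximalIdeal O).map π) ^ n :=
    Ideal.pow_right_mono h1 n
  rw [eq_bot_iff]
  refine h2.trans ?_
  rw [← Ideal.map_pow]
  exact (Ideal.map_quotient_self _).le

section iso

variable (hj : j ≫ X.hom = Spec.map (CommRingCat.ofHom (algebraMap A B)))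
  (hε : Spec.map (CommRingCat.ofHom ε.toRingHom) ≫ j = unitSec X) [IsOpenImmersion j]
  (i : Y ⟶ X) [IsMonHom i] [Mono i] (C : Type u) [CommRing C] [Algebra A C] [IsNoetherianRing C]
  [Flat X.hom] [LocallyOfFinitePresentation X.hom] [LocallyOfFiniteType Y.hom]

include hj hε in
theorem isIso_bc (hconn : SGA3x.neutralSet X = Set.univ)
    (h : ∀ n, 0 < n → ∃ z : Spec (CommRingCat.of (C ⊗[A] (B ⧸ (RingHom.ker ε) ^ n))) ⟶ Y.left,
      z ≫ i.left = Spec.map (CommRingCat.ofHom (Algebra.TensorProduct.includeRight :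
        (B ⧸ (RingHom.ker ε) ^ n) →ₐ[A] C ⊗[A] (B ⧸ (RingHom.ker ε) ^ n)).toRingHom) ≫ c ε j n) :
    IsIso ((Over.pullback (Spec.map (CommRingCat.ofHom (algebraMap A C)))).map i).left := by
  let g := Spec.map (CommRingCat.ofHom (algebraMap A C))
  let X' := Red.bc g X
  let Y' := Red.bc g Y
  let i' : Y' ⟶ X' := (Over.pullback g).map i
  have hN : SGA3x.neutralSet X' = Set.univ := by
    rw [← Groth.Agent.Sga3.H806.ApproxConn.preimage_neutralSet g X, hconn, Set.preimage_univ]
  have i1 : Flat X'.hom := MorphismProperty.pullback_snd (P := @Flat) _ _ ‹_›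
  have i2 : LocallyOfFinitePresentation X'.hom :=
    MorphismProperty.pullback_snd (P := @LocallyOfFinitePresentation) _ _ ‹_›
  have i3 : LocallyOfFiniteType Y'.hom := MorphismProperty.pullback_snd (P := @LocallyOfFiniteType) _ _ ‹_›
  refine isIso_of_fat (X := X') (Y := Y') hN i' ?_
  intro s' n hn
  have hlr := isLocalRing_fatRing X'.left (unitSec X' s') n hn
  let D := fatRing X'.left (unitSec X' s') n
  let F : Spec D ⟶ X'.left := fat X'.left (unitSec X' s') n
  let q : Spec D ⟶ X.left := F ≫ pullback.fst X.hom g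
  let r : Spec D ⟶ Spec (CommRingCat.of C) := F ≫ pullback.snd X.hom g
  have hqrg : q ≫ X.hom = r ≫ g := by
    simp only [q, r, Category.assoc, pullback.condition]
  have hF : F (IsLocalRing.closedPoint D) = unitSec X' s' := fat_closedPoint _ _ _
  have hqc : q (IsLocalRing.closedPoint D) = j (Spec.map (CommRingCat.ofHom ε.toRingHom) (g s')) := by
    change (F ≫ pullback.fst X.hom g) _ = _
    rw [Scheme.Hom.comp_apply, hF, ← Scheme.Hom.comp_apply, Groth.Agent.Sga3.H806.ApproxConn.unit_bc,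
      Scheme.Hom.comp_apply, ← hε, Scheme.Hom.comp_apply]
  have hqr : Set.range q ⊆ Set.range j := by
    let V : (Spec D).Opens := q ⁻¹ᵁ j.opensRange
    have h1 : IsLocalRing.closedPoint D ∈ V := ⟨_, hqc.symm⟩
    have h3 : V = ⊤ := (IsLocalRing.closedPoint_mem_iff V).mp h1
    rintro _ ⟨z, rfl⟩
    have h4 : z ∈ V := by rw [h3]; trivial
    exact h4
  obtain ⟨β, hβ⟩ := Spec.map_surjective (IsOpenImmersion.lift j q hqr)
  obtain ⟨ωc, hωc⟩ := Spec.map_surjective r
  have hβj : Spec.map β ≫ j = q := by rw [hβ, IsOpenImmersion.lift_fac]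
  have hcompat : CommRingCat.ofHom (algebraMap A B) ≫ β = CommRingCat.ofHom (algebraMap A C) ≫ ωc := by
    apply Spec.map_injective
    rw [Spec.map_comp, Spec.map_comp, ← hj, ← Category.assoc, hβj, hωc]
    exact hqrg
  have hβm : ∀ b ∈ RingHom.ker ε, β.hom b ∈ IsLocalRing.maximalIdeal D := by
    intro b hb
    have h1 : (Spec.map β) (IsLocalRing.closedPoint D) = Spec.map (CommRingCat.ofHom ε.toRingHom) (g s') := by
      apply j.injective
      rw [← hqc, ← hβj, Scheme.Hom.comp_apply]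
    have h2 : PrimeSpectrum.comap β.hom (IsLocalRing.closedPoint D) = PrimeSpectrum.comap ε.toRingHom (g s') := h1
    have h3 : b ∈ (PrimeSpectrum.comap β.hom (IsLocalRing.closedPoint D)).asIdeal := by
      rw [h2]
      change ε b ∈ (g s').asIdeal
      have h4 : ε b = 0 := hb
      rw [h4]
      exact Ideal.zero_mem _
    exact h3
  have hβn : ∀ b ∈ (RingHom.ker ε) ^ n, β.hom b = 0 := by
    have h1 : (RingHom.ker ε).map β.hom ≤ IsLocalRing.maximalIdeal D := by
      rw [Ideal.map_le_iff_le_comap]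
      exact hβm
    have h2 : ((RingHom.ker ε) ^ n).map β.hom ≤ ⊥ := by
      rw [Ideal.map_pow, ← pow_maximalIdeal_fatRing X'.left (unitSec X' s') n]
      exact Ideal.pow_right_mono h1 n
    intro b hb
    exact h2 (Ideal.mem_map_of_mem _ hb)
  let _ : Algebra A D := (ωc.hom.comp (algebraMap A C)).toAlgebra
  let ωC : C →ₐ[A] D := { toRingHom := ωc.hom, commutes' := fun _ => rfl }
  let β' : B →ₐ[A] D := { toRingHom := β.hom, commutes' := fun a => congr($(hcompat).hom a) }
  let β'' : (B ⧸ (RingHom.ker ε) ^ n) →ₐ[A] D := Ideal.Quotient.liftₐ _ β' hβn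
  let δd : C ⊗[A] (B ⧸ (RingHom.ker ε) ^ n) →ₐ[A] D := Algebra.TensorProduct.lift ωC β'' (fun _ _ => Commute.all _ _)
  obtain ⟨z, hz⟩ := h n hn
  have hδd : CommRingCat.ofHom (Ideal.Quotient.mk ((RingHom.ker ε) ^ n)) ≫
      CommRingCat.ofHom (Algebra.TensorProduct.includeRight :
        (B ⧸ (RingHom.ker ε) ^ n) →ₐ[A] C ⊗[A] (B ⧸ (RingHom.ker ε) ^ n)).toRingHom ≫
      CommRingCat.ofHom (S := D) δd.toRingHom = β := by
    ext b
    change δd ((1 : C) ⊗ₜ[A] (Ideal.Quotient.mk _ b)) = β.hom b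
    rw [Algebra.TensorProduct.lift_tmul, map_one, _root_.one_mul]
    rfl
  let z' : Spec D ⟶ Y.left := Spec.map (CommRingCat.ofHom (S := D) δd.toRingHom) ≫ z
  have hz' : z' ≫ i.left = q := by
    change (_ ≫ z) ≫ i.left = q
    rw [Category.assoc, hz, ← hβj, ← hδd, Spec.map_comp, Spec.map_comp, Category.assoc, Category.assoc]
  refine ⟨pullback.lift z' r (by
    rw [← Over.w i, ← Category.assoc, hz']
    exact hqrg), ?_⟩
  apply pullback.hom_ext
  · change (_ ≫ ((Over.pullback g).map i).left) ≫ pullback.fst X.hom g = F ≫ pullback.fst X.hom g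
    have h5 : ((Over.pullback g).map i).left ≫ pullback.fst X.hom g = pullback.fst Y.hom g ≫ i.left :=
      pullback.lift_fst _ _ _
    rw [Category.assoc, h5, ← Category.assoc, pullback.lift_fst, hz']
  · change (_ ≫ ((Over.pullback g).map i).left) ≫ pullback.snd X.hom g = F ≫ pullback.snd X.hom g
    have h5 : ((Over.pullback g).map i).left ≫ pullback.snd X.hom g = pullback.snd Y.hom g :=
      pullback.lift_snd _ _ _
    rw [Category.assoc, h5, pullback.lift_snd]

end iso

section rep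

open Groth.Agent.Sga3C.CWMain

omit [GrpObj X] [GrpObj Y] in
/-- If `i` is an isomorphism after base change then `X` is contained in `Y` after base change. -/
theorem cond_of_isIso {S S' : Scheme.{u}} {X Y : Over S} (i : Y ⟶ X) (g : S' ⟶ S)
    (h : IsIso ((Over.pullback g).map i).left) : Cond X.hom i.left g := by
  refine ⟨inv ((Over.pullback g).map i).left ≫ pullback.fst Y.hom g, ?_⟩
  have h5 : ((Over.pullback g).map i).left ≫ pullback.fst X.hom g = pullback.fst Y.hom g ≫ i.left :=
    pullback.lift_fst _ _ _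
  rw [Category.assoc, ← h5, IsIso.inv_hom_id_assoc]

/-- **Local representability over a noetherian base.** -/
theorem exists_ideal (hj : j ≫ X.hom = Spec.map (CommRingCat.ofHom (algebraMap A B)))
    (hε : Spec.map (CommRingCat.ofHom ε.toRingHom) ≫ j = unitSec X) [IsOpenImmersion j]
    (i : Y ⟶ X) [IsMonHom i] [Mono i] [IsNoetherianRing A]
    [Flat X.hom] [LocallyOfFinitePresentation X.hom] [LocallyOfFiniteType Y.hom]
    (hconn : SGA3x.neutralSet X = Set.univ) [Algebra.IsStandardSmooth A B] :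
    ∃ T : Ideal A, ∀ (C : CommRingCat.{u}) (φ : CommRingCat.of A ⟶ C),
      Cond X.hom i.left (Spec.map φ) ↔ T.map φ.hom = ⊥ := by
  have hft : LocallyOfFiniteType i.left := by
    have h1 : LocallyOfFiniteType (i.left ≫ X.hom) := by rw [Over.w]; infer_instance
    exact locallyOfFiniteType_of_comp i.left X.hom
  have hT : ∀ n : ℕ, ∃ T : Ideal A, ∀ (C : Type u) [CommRing C] [Algebra A C],
      T.map (algebraMap A C) = ⊥ ↔
      ∃ z : Spec (CommRingCat.of (C ⊗[A] (B ⧸ (RingHom.ker ε) ^ (n + 1)))) ⟶ Y.left,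
        z ≫ i.left = Spec.map (CommRingCat.ofHom (Algebra.TensorProduct.includeRight :
          (B ⧸ (RingHom.ker ε) ^ (n + 1)) →ₐ[A] C ⊗[A] (B ⧸ (RingHom.ker ε) ^ (n + 1))).toRingHom) ≫
            c ε j (n + 1) := by
    intro n
    have h1 := Groth.Agent.Sga3.H813.FreePow.free_pow ε (n + 1)
    have h2 : Module.Free A (B ⧸ (RingHom.ker ε) ^ (n + 1)) := h1.1
    exact exists_T ε j hε i (n + 1) (Nat.succ_pos n)
  choose T hT using hT
  refine ⟨⨆ n, T n, fun C φ => ?_⟩
  constructor
  · intro h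
    let _ : Algebra A C := φ.hom.toAlgebra
    rw [Ideal.map_iSup, iSup_eq_bot]
    intro n
    exact (hT n C).2 (exists_of_cond ε j hj i C h (n + 1))
  · intro h
    let Q := A ⧸ (⨆ n, T n)
    have h0 : ∀ a ∈ (⨆ n, T n), φ.hom a = 0 := by
      intro a ha
      have := Ideal.mem_map_of_mem φ.hom ha
      rw [h] at this
      exact this
    let χ : CommRingCat.of Q ⟶ C := CommRingCat.ofHom (Ideal.Quotient.lift _ φ.hom h0)
    have h1 : CommRingCat.ofHom (algebraMap A Q) ≫ χ = φ := by
      ext a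
      exact Ideal.Quotient.lift_mk _ φ.hom h0
    have h2 : IsIso ((Over.pullback (Spec.map (CommRingCat.ofHom (algebraMap A Q)))).map i).left := by
      refine isIso_bc ε j hj hε i Q hconn ?_
      intro n hn
      obtain ⟨m, rfl⟩ : ∃ m, n = m + 1 := ⟨n - 1, by omega⟩
      refine (hT m Q).1 ?_
      rw [eq_bot_iff]
      refine (Ideal.map_mono (le_iSup T m)).trans ?_
      exact (Ideal.map_quotient_self _).le
    rw [← h1, Spec.map_comp]
    exact cond_pre X.hom i.left _ _ (cond_of_isIso i _ h2)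

end rep

end K8.WeilNoeth
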