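import Groth.Agent.SGA3x.K21.ClosedCond
import Groth.Agent.SGA3x.K10.MTLoc
import Groth.Agent.SGA3x.K8.WeilNoeth
import Groth.Agent.Sga3.H800.LocRigid

/-!
# The locus where a homomorphism from a group of multiplicative type is trivial is open and closed

* `exists_triv`: the condition `TrivOver g u` is represented by a closed subscheme of `S`;
* `exists_nhd`: it is an open condition (`S` locally Noetherian, or `G` locally of finite type);
* `exists_clopen`.
-/

set_option autoImplicit false
universe u
open CategoryTheory MonoidalCategory CartesianMonoidalCategory MonObj GrpObj AlgebraicGeometry Limits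

namespace K8.TrivLocus

open Groth.Agent Groth.Agent.Sga3B Groth.Agent.Sga3.H800.LocRig K21.MultLoc

variable {S S' S'' : Scheme.{u}} {H G : Over S} [GrpObj G]

section triv

lemma trivOver_bc (x : S' ⟶ S) (y : S'' ⟶ S') (u : H ⟶ G) :
    TrivOver y ((Over.pullback x).map u) ↔ TrivOver (y ≫ x) u := by
  constructor
  · intro h T t q
    let T' : Over S' := Over.mk (t.left ≫ y)
    let e : (Over.map x).obj T' ≅ T := Over.isoMk (Iso.refl _) (by
      simp only [T', Over.map_obj_hom, Over.mk_hom, Category.assoc]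
      erw [Category.id_comp]
      exact (Over.w t).symm)
    have h1 := h T' (Over.homMk t.left rfl) (BcPts.bcEquiv x T' H (e.hom ≫ q))
    rw [← BcPts.bcEquiv_comp, ← BcPts.bcEquiv_one (f := x) (T := T') (G := G)] at h1
    have h2 := (BcPts.bcEquiv x T' G).injective h1
    rw [Category.assoc] at h2
    rw [← cancel_epi e.hom, h2, comp_one]
  · intro h T t q
    obtain ⟨q', rfl⟩ := (BcPts.bcEquiv x T H).surjective q
    rw [← BcPts.bcEquiv_comp, ← BcPts.bcEquiv_one (f := x) (T := T) (G := G)]
    congr 1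
    refine h _ (Over.homMk t.left ?_) q'
    have := Over.w t
    simp only [Over.mk_hom] at this
    simp [← this]

lemma trivOver_id (u : H ⟶ G) : TrivOver (𝟙 S) u ↔ u = 1 := by
  constructor
  · intro h
    have := h H (Over.homMk H.hom (Category.comp_id _)) (𝟙 H)
    rwa [Category.id_comp] at this
  · rintro rfl T t q
    exact comp_one q

lemma trivOver_iff_map (x : S' ⟶ S) (u : H ⟶ G) : TrivOver x u ↔ (Over.pullback x).map u = 1 := by
  rw [← trivOver_id, trivOver_bc, Category.id_comp]

lemma trivOver_pre (y : S'' ⟶ S') (x : S' ⟶ S) {u : H ⟶ G} (h : TrivOver x u) : TrivOver (y ≫ x) u := by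
  intro T t q
  exact h T (t ≫ Over.homMk y rfl) q

lemma trivOver_iso {H' : Over S} (e : H' ≅ H) (x : S' ⟶ S) (u : H ⟶ G) :
    TrivOver x (e.hom ≫ u) ↔ TrivOver x u := by
  constructor
  · intro h T t q
    have := h T t (q ≫ e.inv)
    rwa [Category.assoc, e.inv_hom_id_assoc] at this
  · intro h T t q
    rw [← Category.assoc]
    exact h T t _

/-- fppf locality -/
lemma trivOver_of_cover (x : S' ⟶ S) (u : H ⟶ G)
    (h : ∀ s' : S', ∃ (V : Scheme.{u}) (v : V ⟶ S'), Flat v ∧ s' ∈ Set.range v ∧
      TrivOver (v ≫ x) u) : TrivOver x u := by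
  intro T t q
  choose V v hv hr htr using h
  let W : T.left → Scheme.{u} := fun z => pullback t.left (v (t.left z))
  let p : (∐ W) ⟶ T.left := Sigma.desc fun z => pullback.fst t.left (v (t.left z))
  have hι : ∀ z, Sigma.ι W z ≫ p = pullback.fst t.left (v (t.left z)) := fun z => Sigma.ι_desc _ _
  have hp : Flat p := by
    have : ∀ z, Flat (pullback.fst t.left (v (t.left z))) := fun z => by
      have := hv (t.left z)
      infer_instance
    exact inferInstanceAs (Flat (Sigma.desc fun z => pullback.fst t.left (v (t.left z))))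
  have hps : Surjective p := by
    constructor
    intro z
    obtain ⟨y, hy⟩ := hr (t.left z)
    obtain ⟨w, hw, -⟩ := Scheme.Pullback.exists_preimage_pullback z y hy.symm
    refine ⟨Sigma.ι W z w, ?_⟩
    rw [← Scheme.Hom.comp_apply, hι, hw]
  have hepi : Epi p := Flat.epi_of_flat_of_surjective p
  apply Over.OverMorphism.ext
  rw [← cancel_epi p]
  apply Sigma.hom_ext
  intro z
  rw [← Category.assoc, ← Category.assoc, hι]
  let T' : Over S := Over.mk (pullback.fst t.left (v (t.left z)) ≫ T.hom)
  let a : T' ⟶ T := Over.homMk (pullback.fst t.left (v (t.left z)))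
  have h1 := htr (t.left z) T' (Over.homMk (pullback.snd t.left (v (t.left z))) (by
    have := Over.w t
    simp only [Over.mk_hom] at this
    simp only [T', Over.mk_hom]
    rw [← this, pullback.condition_assoc])) (a ≫ q)
  have h2 : a ≫ q ≫ u = a ≫ 1 := by rw [← Category.assoc, h1, comp_one]
  exact congrArg CommaMorphism.left h2

end triv

section closed

/-- The condition that `u` is trivial is represented by a closed subscheme of the base. -/
theorem exists_triv [GrpObj H] (hH : IsMult H) [IsSeparated G.hom] (u : H ⟶ G) :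
    ∃ (Z : Scheme.{u}) (t : Z ⟶ S), IsClosedImmersion t ∧
      (LocallyOfFiniteType G.hom → LocallyOfFinitePresentation t) ∧
      ∀ {S' : Scheme.{u}} (g : S' ⟶ S), (∃ g' : S' ⟶ Z, g' ≫ t = g) ↔ TrivOver g u := by
  have h1 := K21.ClosedCond.isClosedImmersion_one G
  obtain ⟨Z, z, hz, huniv, hfp⟩ := K21.ClosedCond.exists_closed_map (X := 𝟙_ (Over S)) (Q := H) hH
    (snd (𝟙_ (Over S)) H ≫ u) η[G]
  refine ⟨Z.left, z.left, hz, fun h => hfp (K21.ClosedCond.locallyOfFinitePresentation_one G), fun {S'} g => ?_⟩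
  let T : Over S := Over.mk g
  let p : T ⟶ 𝟙_ (Over S) := toUnit T
  have hp : p.left = g := by
    have := Over.w p
    simpa [T] using this
  have h1 : (∃ g' : S' ⟶ Z.left, g' ≫ z.left = g) ↔ ∃ w : T ⟶ Z, w ≫ z = p := by
    constructor
    · rintro ⟨g', hg'⟩
      refine ⟨Over.homMk g' ?_, ?_⟩
      · rw [← Over.w z, ← Category.assoc, hg']
        exact Category.comp_id g
      · apply Over.OverMorphism.ext
        rw [hp]
        exact hg'
    · rintro ⟨w, hw⟩
      exact ⟨w.left, by rw [← Over.comp_left, hw, hp]⟩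
  rw [h1, huniv T p]
  refine forall_congr' fun T' => forall_congr' fun x => forall_congr' fun h => ?_
  rw [lift_snd_assoc]
  constructor
  · rintro ⟨b, hb⟩
    rw [← hb, one_eq_one, comp_one]
  · intro h
    exact ⟨toUnit _, by rw [h, one_eq_one, comp_one]⟩

/-- Closed immersions induce isomorphisms of residue fields. -/
lemma exists_factor_residue {Z : Scheme.{u}} (t : Z ⟶ S) [IsClosedImmersion t] (z : Z) :
    ∃ w : Spec (S.residueField (t z)) ⟶ Z, w ≫ t = S.fromSpecResidueField (t z) := by
  have hb : Function.Bijective (t.residueFieldMap z).hom := by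
    refine ⟨(t.residueFieldMap z).hom.injective, ?_⟩
    intro y
    obtain ⟨y, rfl⟩ := Z.residue_surjective z y
    obtain ⟨x, rfl⟩ := t.stalkMap_surjective z y
    refine ⟨S.residue _ x, ?_⟩
    have := congrArg (fun f => f.hom x) (Scheme.residue_residueFieldMap t z)
    simpa using this
  have : IsIso (t.residueFieldMap z) := (ConcreteCategory.isIso_iff_bijective _).2 hb
  refine ⟨Spec.map (inv (t.residueFieldMap z)) ≫ Z.fromSpecResidueField z, ?_⟩
  rw [Category.assoc, ← Scheme.Hom.SpecMap_residueFieldMap_fromSpecResidueField, ← Category.assoc,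
    ← Spec.map_comp, IsIso.hom_inv_id, Spec.map_id, Category.id_comp]

/-- Closed subschemes of affine schemes. -/
theorem exists_ideal {E : Type u} [CommRing E] {Z : Scheme.{u}} (f : Z ⟶ Spec (CommRingCat.of E)) [IsClosedImmersion f] :
    ∃ K : Ideal E, (∀ (D : Type u) [CommRing D] (ψ : E →+* D),
        (∃ z : Spec (CommRingCat.of D) ⟶ Z, z ≫ f = Spec.map (CommRingCat.ofHom ψ)) ↔ ∀ b ∈ K, ψ b = 0) ∧
      (LocallyOfFinitePresentation f → K.FG) ∧ ∀ x ∈ Set.range f, K ≤ x.asIdeal := by
  obtain ⟨K, e, he⟩ := (IsClosedImmersion.Spec_iff (f := f)).1 inferInstance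
  refine ⟨K, fun D _ ψ => ?_, fun h => ?_, ?_⟩
  · constructor
    · rintro ⟨z, hz⟩ b hb
      let q : Spec (CommRingCat.of D) ⟶ Spec (CommRingCat.of (E ⧸ K)) := z ≫ e.hom
      obtain ⟨χ, hχ⟩ := Spec.map_surjective q
      have h1 : CommRingCat.ofHom (Ideal.Quotient.mk K) ≫ χ = CommRingCat.ofHom ψ := by
        apply Spec.map_injective
        rw [Spec.map_comp, hχ, ← hz, he, Category.assoc]
      have h2 : Ideal.Quotient.mk K b = 0 := Ideal.Quotient.eq_zero_iff_mem.2 hb
      have h3 : ψ b = χ.hom (Ideal.Quotient.mk K b) := congr($(h1.symm).hom b)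
      rw [h3, h2, map_zero]
    · intro h
      let χ : CommRingCat.of (E ⧸ K) ⟶ CommRingCat.of D := CommRingCat.ofHom (Ideal.Quotient.lift K ψ h)
      have h1 : CommRingCat.ofHom (Ideal.Quotient.mk K) ≫ χ = CommRingCat.ofHom ψ := by
        ext b
        exact Ideal.Quotient.lift_mk K ψ h
      refine ⟨Spec.map χ ≫ e.inv, ?_⟩
      rw [he, Category.assoc, e.inv_hom_id_assoc, ← h1, Spec.map_comp]
  · have h1 : LocallyOfFinitePresentation (Spec.map (CommRingCat.ofHom (Ideal.Quotient.mk K))) := by
      have h2 : Spec.map (CommRingCat.ofHom (Ideal.Quotient.mk K)) = e.inv ≫ f := by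
        rw [he, e.inv_hom_id_assoc]
      rw [h2]
      infer_instance
    rw [HasRingHomProperty.Spec_iff (P := @LocallyOfFinitePresentation)] at h1
    have h3 : Algebra.FinitePresentation E (E ⧸ K) := h1
    have h4 := Algebra.FinitePresentation.ker_fG_of_surjective (Ideal.Quotient.mkₐ E K) Ideal.Quotient.mk_surjective
    have h5 : RingHom.ker (Ideal.Quotient.mkₐ E K).toRingHom = K := Ideal.mk_ker
    rw [← h5]
    exact h4
  · rintro _ ⟨z, rfl⟩ b hb
    have h1 : f z = Spec.map (CommRingCat.ofHom (Ideal.Quotient.mk K)) (e.hom z) := by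
      rw [he]
      rfl
    rw [h1]
    change b ∈ Ideal.comap (Ideal.Quotient.mk K) _
    rw [Ideal.mem_comap, Ideal.Quotient.eq_zero_iff_mem.2 hb]
    exact Ideal.zero_mem _

/-- Finitely generated ideals vanishing at a localisation. -/
lemma exists_away {C : Type u} [CommRing C] (J p : Ideal C) [p.IsPrime] (hJ : J.FG)
    (h : ∀ x ∈ J, algebraMap C (Localization.AtPrime p) x = 0) :
    ∃ f ∉ p, ∀ x ∈ J, algebraMap C (Localization.Away f) x = 0 := by
  classical
  obtain ⟨s, rfl⟩ := hJ
  have h1 : ∀ x : C, x ∈ s → ∃ c : C, c ∉ p ∧ c * x = 0 := by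
    intro x hx
    have h2 := h x (Ideal.subset_span hx)
    rw [← map_zero (algebraMap C (Localization.AtPrime p)),
      IsLocalization.eq_iff_exists p.primeCompl] at h2
    obtain ⟨c, hc⟩ := h2
    exact ⟨c, c.2, by simpa using hc⟩
  choose! c hc1 hc2 using h1
  refine ⟨∏ x ∈ s, c x, ?_, ?_⟩
  · intro hmem
    obtain ⟨x, hx, hx'⟩ := (Ideal.IsPrime.prod_mem_iff (p := p)).1 hmem
    exact hc1 x hx hx'
  · intro x hx
    have h3 : (∏ x ∈ s, c x) * x = 0 := by
      induction hx using Submodule.span_induction with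
      | mem x hx =>
        rw [← Finset.mul_prod_erase s c hx, mul_right_comm, hc2 x hx, zero_mul]
      | zero => exact mul_zero _
      | add x y _ _ hx hy => rw [mul_add, hx, hy, add_zero]
      | smul a x _ hx => rw [smul_eq_mul, mul_left_comm, hx, mul_zero]
    have h4 := congrArg (algebraMap C (Localization.Away (∏ x ∈ s, c x))) h3
    rw [map_mul, map_zero] at h4
    exact (IsLocalization.Away.algebraMap_isUnit (∏ x ∈ s, c x)).mul_right_eq_zero.1 h4

end closed

end K8.TrivLocus
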